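import Cfsg.Agent.OD.Alpha
import Cfsg.Agent.S0205
import Cfsg.Agent.Grp.Card
import Cfsg.Agent.Grp.MinNormal

/-! # Reduction of Theorem OD to the simple case (S4008, captain helper80).
Copy-and-adapt of Fuk/Red (`Cy.simple`, `solv_of_hyp`). -/

set_option autoImplicit false
set_option linter.unusedSectionVars false
set_option linter.unusedVariables false

namespace Cfsg.Agent.OD

open Cfsg.Agent.PLocal hiding centralizer_anti
open Subgroup Cfsg Cfsg.Agent.PLocal.Amb Cfsg.Agent.PLocal.TV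
open Cfsg.Agent.PLocal.SL2Nat Cfsg.Agent.PLocal.Bk
open Cfsg.Agent.PLocal.CP (IsCharP MinOver ncl)
open Cfsg.Agent.Baum Cfsg.Agent.Solv
open scoped commutatorElement MatrixGroups Cfsg.Agent.PLocal.CP Pointwise

/-- As `Fuk.Cy.simple` (k1, k2, k3, k5, k6, k7 unchanged; generator `α` from `Od.gen`).  New k4:
if `N ⊓ C(N) = ⊥` then for `n ∈ N`, `n c` fixed (`c ∈ C(N)`) has odd order `m` (`Od.odd`), so
`n ^ m = c⁻¹ ^ m ∈ N ⊓ C(N) = 1`: `|N|` is odd (Cauchy), `N` is solvable (`S0205.result`), so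
abelian (`Grp.minNormal_elementaryAbelian`), `N ≤ N ⊓ C(N) = ⊥`. ↯ -/
theorem Od.simple {A G : Type*} [Group A] [Group G] [Finite A] [Finite G] [MulDistribMulAction A G]
    [Nontrivial G] (h : Od A G) (na : ¬ IsMulCommutative G)
    (hs : ∀ N : Subgroup G, N.Normal → Ext.Inv A N → N = ⊥ ∨ N = ⊤) : IsSimpleGroup G := by
  obtain ⟨N, hn, N1, hmin⟩ := Grp.exists_minNormal G
  by_cases iN : Ext.Inv A N
  · obtain rfl := (hs N hn iN).resolve_left N1
    exact ⟨fun K hK => hmin K hK le_top⟩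
  exfalso
  haveI : Nontrivial A := Finite.one_lt_card_iff_nontrivial.1 h.pr.one_lt
  obtain ⟨α, h0⟩ := _root_.exists_ne (1 : A)
  have h1 := h.gen h0
  have h2 : orderOf α = Nat.card A := by rw [← Nat.card_zpowers, h1, card_top]
  have h3 : ∀ x : G, α • x = x → ∀ a : A, a • x = x := fun x hx a =>
    (zpowers_le.2 (show α ∈ MulAction.stabilizer A x from hx)) (h1 ▸ mem_top a)
  have k1 : ∀ a : A, a ≠ 1 → N.map (Ext.hom G a) ≤ 𝐂[N] := by
    intro a a1
    haveI : (N.map (Ext.hom G a)).Normal := hn.map _ (Ext.hom_surjective a)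
    rcases hmin (N.map (Ext.hom G a) ⊓ N) inferInstance inf_le_right with e | e
    · rw [← commutator_eq_bot_iff_le_centralizer, eq_bot_iff, ← e]
      exact commutator_le_inf _ _
    · exfalso
      have e2 : N.map (Ext.hom G a) = N := (eq_of_le_of_card_ge (e.ge.trans inf_le_left)
        (Subgroup.card_map_of_injective (Ext.hom_injective a)).le).symm
      haveI : Fact (Nat.card A).Prime := ⟨h.pr⟩
      have e3 : zpowers a = ⊤ := zpowers_eq_top_of_prime_card rfl a1
      have e4 : zpowers a ≤ MulAction.stabilizer A N := zpowers_le.2 e2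
      exact iN (Ext.inv_iff_smul_eq.2 fun b => e4 (e3 ▸ mem_top b))
  have k2 : ∀ n ∈ N, ∀ s, s < Nat.card A → ∃ c ∈ 𝐂[N], α • (n * c) = c * α ^ (s + 1) • n := by
    intro n hn' s
    induction s with
    | zero => exact fun _ => ⟨1, one_mem _, by simp⟩
    | succ s ih =>
      intro hlt
      obtain ⟨c, hc, e⟩ := ih (by omega)
      refine ⟨c * α ^ (s + 1) • n, mul_mem hc (k1 _ (pow_ne_one_of_lt_orderOf (by omega)
        (by omega)) (mem_map_of_mem _ hn')), ?_⟩
      rw [← mul_assoc, smul_mul', e, smul_smul, ← pow_succ']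
  have k3 : ∀ n ∈ N, ∃ c ∈ 𝐂[N], ∀ a : A, a • (n * c) = n * c := by
    intro n hn'
    have := h.pr.two_le
    obtain ⟨c, hc, e⟩ := k2 n hn' (Nat.card A - 1) (by omega)
    rw [show Nat.card A - 1 + 1 = orderOf α by omega, pow_orderOf_eq_one, one_smul,
      ← hc n hn'] at e
    exact ⟨c, hc, h3 _ e⟩
  have k4 : N ≤ 𝐂[N] := by
    rcases hmin (N ⊓ 𝐂[N]) inferInstance inf_le_left with e | e
    · haveI := S0205.result (G := N) (Nat.not_even_iff_odd.1 fun ev => by
        haveI : Fact (Nat.Prime 2) := ⟨Nat.prime_two⟩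
        obtain ⟨n, o⟩ := exists_prime_orderOf_dvd_card' 2 ev.two_dvd
        obtain ⟨c, hc, e1⟩ := k3 n n.2
        have e2 := pow_orderOf_eq_one (n * c)
        rw [Commute.mul_pow (hc n n.2), mul_eq_one_iff_eq_inv] at e2
        have e3 : (n : G) ^ orderOf (n * c) ∈ N ⊓ 𝐂[N] :=
          mem_inf.2 ⟨pow_mem n.2 _, e2 ▸ inv_mem (pow_mem hc _)⟩
        rw [e, mem_bot, ← orderOf_dvd_iff_pow_eq_one, orderOf_coe, o] at e3
        exact (h.odd e1).not_two_dvd_nat e3)
      exact fun n hn' m hm => congrArg Subtype.val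
        ((Grp.minNormal_elementaryAbelian N N1 hmin).1.is_comm.comm ⟨m, hm⟩ ⟨n, hn'⟩)
    · exact e.ge.trans inf_le_right
  have k5 : (⨆ a : A, N.map (Ext.hom G a)) = ⊤ := by
    refine (hs _ ?_ ?_).resolve_left fun e => N1 (eq_bot_iff.2 fun x hx => ?_)
    · haveI := fun a : A => hn.map _ (Ext.hom_surjective (G := G) a)
      exact iSup_normal _
    · intro b x hx
      have : (⨆ a : A, N.map (Ext.hom G a)).map (Ext.hom G b) ≤ ⨆ a : A, N.map (Ext.hom G a) := by
        rw [Subgroup.map_iSup]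
        refine iSup_le fun a => le_trans ?_ (le_iSup _ (b * a))
        rintro _ ⟨_, ⟨y, hy, rfl⟩, rfl⟩
        exact ⟨y, hy, mul_smul b a y⟩
      exact this (mem_map_of_mem _ hx)
    · rw [← e]
      exact le_iSup (fun a : A => N.map (Ext.hom G a)) 1 ⟨x, hx, one_smul A x⟩
  have k6 : 𝐂[N] = ⊤ := by
    rw [eq_top_iff, ← k5]
    refine iSup_le fun a => ?_
    by_cases a1 : a = 1
    · rintro _ ⟨y, hy, rfl⟩
      rw [a1, Ext.hom_apply, one_smul]
      exact k4 hy
    · exact k1 a a1
  have k7 : N ≤ center G := centralizer_eq_top_iff_subset.1 k6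
  rcases hs (center G) inferInstance (Ext.inv_of_characteristic _) with e | e
  · exact N1 (eq_bot_iff.2 (e ▸ k7))
  · exact na ⟨⟨fun a b => mem_center_iff.1 (e ▸ mem_top b) a⟩⟩

universe u

/-- As `Fuk.solv_of_hyp`; in the simple case `|G|` is even (`S0205.result`), `O₂(G) = ⊥`, and
`Od.exists_al` gives `S`, `D`. -/
theorem solv_of_al {A : Type*} [Group A] [Finite A]
    (main : ∀ (G : Type u) [Group G] [Finite G] [MulDistribMulAction A G] [IsSimpleGroup G]
      (I S D : Subgroup G), ¬ IsMulCommutative G → ¬ Al A I S D)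
    (G : Type u) [Group G] [Finite G] :
    ∀ [MulDistribMulAction A G], Od A G → Group.IsSolvable G := by
  refine Grp.card_induction
    (P := fun G _ _ => ∀ [MulDistribMulAction A G], Od A G → Group.IsSolvable G) ?_ G
  intro G _ _ ih _ h
  have sub : ∀ H : Subgroup G, H ≠ ⊤ → Ext.Inv A H → Group.IsSolvable H := by
    intro H hH iH
    obtain ⟨_, hs⟩ := Ext.exists_subAction iH
    exact ih H (Grp.card_lt_of_ne_top hH) (h.sub hs)
  by_contra ns
  have na : ¬ IsMulCommutative G := fun hc => ns (Group.isSolvable_of_comm hc.is_comm.comm)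
  haveI : Nontrivial G := by
    by_contra hn
    rw [not_nontrivial_iff_subsingleton] at hn
    exact ns inferInstance
  haveI := h.simple na fun N hn iN => by
    by_contra hc
    rw [not_or] at hc
    obtain ⟨_, hq⟩ := Ext.exists_quotAction iN
    haveI := sub N hc.2 iN
    haveI := ih (G ⧸ N) (Grp.card_quotient_lt N hc.1) (h.quot iN hq)
    exact ns (Group.isSolvable_of_ker_le_range N.subtype (QuotientGroup.mk' N) (by simp))
  haveI : Fact (Nat.Prime 2) := ⟨Nat.prime_two⟩
  obtain ⟨S, D, a⟩ := h.exists_al ((IsSimpleGroup.eq_bot_or_eq_top_of_normal (pCore 2 G) inferInstance).resolve_right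
    fun e => ns (by
      haveI := (IsPGroup.of_equiv (e ▸ Grp.pCore_isPGroup 2 G) topEquiv).isNilpotent
      infer_instance))
    (Nat.not_odd_iff_even.1 fun o => ns (S0205.result o)).two_dvd sub
  exact main G _ S D na a

end Cfsg.Agent.OD
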