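import Cfsg.Agent.OD.ApiC
import Cfsg.Agent.Baum.A0Y

/-! # Commuting modules over the same `B` (port of Baum/A0Y; S4008, captain helper80). -/

set_option autoImplicit false
set_option linter.unusedSectionVars false
set_option linter.unusedVariables false

namespace Cfsg.Agent.OD

open Cfsg.Agent.PLocal hiding centralizer_anti
open Subgroup Cfsg Cfsg.Agent.PLocal.Amb Cfsg.Agent.PLocal.TV
open Cfsg.Agent.PLocal.SL2Nat Cfsg.Agent.PLocal.Bk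
open Cfsg.Agent.PLocal.CP (IsCharP MinOver ncl)
open Cfsg.Agent.Baum
open scoped commutatorElement MatrixGroups Cfsg.Agent.PLocal.CP


variable {G : Type*} [Group G] [Finite G] {B X₁ W₁ X₂ W₂ A : Subgroup G} {x : G}

namespace A0X

open Cfsg.Agent.Baum.A0Y (cm dc cle)

/-- `A` normalises every group between `W` and `C_A(W) W`. -/
theorem key {B X W U : Subgroup G} (h : Rq B X W) (hA : A ∈ maxEA 2 B) (h1 : W ≤ U)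
    (h2 : U ≤ A ⊓ 𝐂[W] ⊔ W) : A ≤ 𝐍[U] := by
  refine ApiC.nor ((commutator_comm _ _).trans_le (commutator_le.2 fun v hv a ha => ?_))
  obtain ⟨w, hw, u, hu, rfl⟩ := dc (h2 hv)
  rw [cm (isEA_comm hA.2.1 hu.1 ha)]
  exact h1 (h.ZW (h.quad (commutator_mem_commutator hw (hA.1 ha))))

end A0X

open A0X
open Cfsg.Agent.Baum.A0Y (cm dc cle)

/-- Suppose all members of `𝒜(Q₁)` centralise `W₂`.  Then `W₂` lies in every member, and so does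
`W₂^x`, `x ∈ X₁` (`X₁` normalises `Q₁` and permutes `𝒜(Q₁)`).  Take `A = ` the offender `h₂.off`;
`A ≰ Q₁` (else `A ∈ 𝒜(Q₁)`, `mem_maxEA_of_le`), so `A Q₁ = B` and `A* = (A ⊓ C(W₁)) W₁ ∈ 𝒜(Q₁)`
(`full`).  (1) `W₂ ≤ A*`: write `w = a₁ w₁`.  (2) `X₁` normalises `W₁ W₂`: `⁅W₂^x, A⁆ ≤ ⁅A*, A⁆ ≤ W₁`
for all `x ∈ X₁`, so `A` and `A^y` (`y ∈ X₁ \ N(B)`) normalise `W₁ W₂`, so does `Q₁ ≤ B`, and
`X₁ ≤ B ⊔ B^y = (A ⊔ A^y) Q₁`.  (3) `⁅W₁ W₂, Q₁⁆ = ⁅W₂, Q₁⁆ ≤ Z` is `X₁`-invariant, so `≤ C₁` (`inv`).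
(4) `Q₁ ≤ Q₂`: `g ∈ Q₁`, `g = a g₂` (`A Q₂ = B`); if `a ∈ Q₁` then `a ∈ A*` centralises `W₂`;
otherwise for `w = a₁ w₁ ∈ W₂`: `⁅w₁, a⁆ = ⁅w, a⁆ = ⁅w, g⁆ ∈ C₁`, `ti` gives `w₁ ∈ Z`, so
`⁅w, a⁆ = 1`.  (5) `W₂ ≤ W₁`: `a₁ = w w₁⁻¹` centralises `Q₁` and `A`, so `a₁ ∈ Z ≤ W₁`.
(6) `Q₂ ≤ Q₁` by `h₁.ti` with `w ∈ W₂ \ Z`; so `q₁ = q₂`, `|W₁| = |W₂|` (`idxZ`), `W₁ = W₂`. -/
theorem Rq.a0 (h₁ : Rq B X₁ W₁) (h₂ : Rq B X₂ W₂) (hc : W₁ ≤ 𝐂[W₂]) (ne : W₁ ≠ W₂) :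
    ∃ A ∈ maxEA 2 𝐐[B, W₁], ¬ A ≤ 𝐂[W₂] := by
  by_contra! hall
  have q : W₂ ≤ 𝐐[B, W₁] := le_inf h₂.WB (cent_symm hc)
  have m : ∀ x ∈ X₁, ∀ E ∈ maxEA 2 𝐐[B, W₁], cj(x, W₂) ≤ E := fun x hx E hE => by
    have k : cj(x⁻¹, E) ∈ maxEA 2 cj(x⁻¹, 𝐐[B, W₁]) := map_mem_maxEA (conj_inj x⁻¹) hE
    rw [cj_of_mem_normalizer (h₁.nQ (inv_mem hx))] at k
    exact cj_le_iff.2 (le_of_mem_maxEA_of_centralizes k q (fun v hv => (sq v).trans (h₂.sqW hv))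
      (cent_symm (hall _ k)))
  obtain ⟨A, hA, hn⟩ := h₂.off
  have hn1 : ¬ A ≤ 𝐂[W₁] := fun c => hn (hall A (mem_maxEA_of_le hA (le_inf hA.1 c) inf_le_left))
  obtain ⟨f1, -, f3⟩ := h₁.full hA hn1
  obtain ⟨g1, -, -⟩ := h₂.full hA hn
  replace f3 := mem_maxEA_of_le f3 (sup_le (inf_le_inf_right _ hA.1) h₁.WQ) inf_le_left
  have m1 : W₂ ≤ A ⊓ 𝐂[W₁] ⊔ W₁ := by simpa only [cj_one] using m 1 (one_mem _) _ f3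
  have nB : B ≤ 𝐍[W₂ ⊔ W₁] := le_normalizer_sup (h₂.BX.trans h₂.nW) (h₁.BX.trans h₁.nW)
  have n : X₁ ≤ 𝐍[W₂ ⊔ W₁] := by
    obtain ⟨y, hy, hy'⟩ := h₁.exN
    refine (h₁.gen0 y hy hy').trans (sup_le nB ?_)
    rw [← f1, cj_sup, cj_of_mem_normalizer (h₁.nQ hy)]
    refine sup_le (cj_le_iff.2 ?_) (inf_le_left.trans nB)
    rw [← normalizer_cj, cj_sup, cj_of_mem_normalizer (h₁.nW (inv_mem hy))]
    exact key h₁ hA le_sup_right (sup_le (m _ (inv_mem hy) _ f3) le_sup_right)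
  have c3 : ⁅W₂ ⊔ W₁, 𝐐[B, W₁]⁆ ≤ 𝐅[X₁, W₁] :=
    h₁.inv ((cle hc (cent_symm inf_le_right)).trans ((commutator_mono le_rfl inf_le_left).trans h₂.quad))
      (le_normalizer_commutator n h₁.nQ)
  have c4 : 𝐐[B, W₁] ≤ 𝐂[W₂] := fun g hg w hw => by
    obtain ⟨a, ha, r⟩ := ApC.dec h₂ g1 hg.1
    obtain ⟨v, hv, u, hu, e⟩ := dc (m1 hw)
    have e2 : ⁅w, g⁆ = ⁅v, a⁆ := by rw [r w hw, e, cm (isEA_comm hA.2.1 hu.1 ha)]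
    refine commutatorElement_eq_one_iff_mul_comm.1 (e2.trans (commutatorElement_eq_one_iff_mul_comm.2 ?_))
    rcases h₁.ti hv (hA.1 ha) (e2 ▸ c3 (commutator_mem_commutator (mem_sup_left hw) hg)) with k | k
    · exact k v hv
    · exact (Z_le_cent B k a (hA.1 ha)).symm
  have c5 : W₂ ≤ W₁ := fun w hw => by
    obtain ⟨v, hv, u, hu, e⟩ := dc (m1 hw)
    have k : u ∈ 𝐂[A ⊔ 𝐐[B, W₁]] := by
      rw [Amb.centralizer_sup]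
      refine mem_inf.2 ⟨isEA_le_centralizer hA.2.1 hu.1, ?_⟩
      rw [← Subgroup.mul_mem_cancel_left _ (cent_symm (inf_le_right : 𝐐[B, W₁] ≤ _) hv), ← e]
      exact cent_symm c4 hw
    rw [f1] at k
    exact e ▸ mul_mem hv (h₁.ZW (mem_Z (hA.1 hu.1) k ((sq u).symm.trans (hA.2.1.2 u hu.1))))
  obtain ⟨w, hw, hw'⟩ := SetLike.not_le_iff_exists.1 fun c : W₂ ≤ 𝐙[B] =>
    hn (cent_symm (c.trans ((Z_le_cent B).trans (centralizer_anti hA.1))))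
  have c6 : 𝐐[B, W₁] = 𝐐[B, W₂] := le_antisymm (le_inf inf_le_left c4) fun g hg =>
    ⟨hg.1, (h₁.ti (c5 hw) hg.1 (by
      rw [commutatorElement_eq_one_iff_mul_comm.2 (hg.2 w hw)]; exact one_mem _)).resolve_right hw'⟩
  refine ne (eq_of_le_of_card_le c5 ?_).symm
  rw [← card_mul_relIndex_of_le h₁.ZW, ← card_mul_relIndex_of_le h₂.ZW, h₁.idxZ, h₂.idxZ,
    ← inf_relIndex_left, c6, inf_relIndex_left]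

/-- `T = W₁^x ≤ Q₂` (`Q₂ ⊴ X₂`), `A₀ = A ⊓ C(W₂)`, `A₀ W₂ ∈ 𝒜(B)` (`maxQ`, `full`) is centralised by
`T`, so `T ≤ A₀ W₂` and `⁅T, A⁆ ≤ W₂`: `A` normalises `T W₂`.  So does `B^x`, and
`X₂ ≤ B^x ⊔ ⟨a⟩` (`gen`, `a ∈ A \ C(W₂)`).  Conjugating by `x⁻¹ ∈ X₂`: `T W₂ = W₁ W₂`. -/
theorem Rq.norm_of_cent (h₁ : Rq B X₁ W₁) (h₂ : Rq B X₂ W₂) (hc : W₁ ≤ 𝐂[W₂])
    (hA : A ∈ maxEA 2 𝐐[B, W₁]) (hn : ¬ A ≤ 𝐂[W₂]) (hx : x ∈ X₂) (hx' : x ∉ 𝐍[𝐙[B]])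
    (e : A ⊓ 𝐂[W₂] ≤ 𝐂[cj(x, W₁)]) : X₂ ≤ 𝐍[W₁ ⊔ W₂] := by
  have hB := h₁.maxQ hA
  have t : cj(x, W₁) ≤ 𝐐[B, W₂] := cj_le_of_mem_normalizer (le_inf h₁.WB hc) (h₂.nQ hx)
  have c := le_of_mem_maxEA_of_centralizes (h₂.full hB hn).2.2 (t.trans inf_le_left)
    (fun v hv => (sq v).trans ((h₁.cj x).sqW hv))
    (by rw [Amb.centralizer_sup]; exact le_inf (cent_symm e) (t.trans inf_le_right))
  obtain ⟨a, ha, ha'⟩ := SetLike.not_le_iff_exists.1 hn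
  rw [← cj_le_cj_iff (g := x), cj_of_mem hx, ← normalizer_cj, cj_sup, cj_of_mem_normalizer (h₂.nW hx)]
  exact (h₂.gen hx hx' (hB.1 ha) ha').trans (sup_le (le_normalizer_sup ((h₁.cj x).BX.trans (h₁.cj x).nW)
    ((h₂.cjX hx).BX.trans h₂.nW)) (zpowers_le.2 (key h₂ hB le_sup_right (sup_le c le_sup_right) ha)))

/-- By `a0` (both ways) `Q₂ Q₁ = B`, so `Y₁ = ⁅W₁, Q₂⁆` (`comm_eq`).  Take `A` from `a0`,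
`x ∈ X₂ \ N(B)`, `T = W₁^x`, `A₀ = A ⊓ C(W₂)`.  If `A₀` centralises `T`: `norm_of_cent`, and
`Y₁ = ⁅W₁ W₂, Q₂⁆ ≤ Z` is `X₂`-invariant; `inv`.  Otherwise `E = A₀ W₂ ∈ 𝒜(Q₂) ⊆ 𝒜(B^x)`
(`(h₂.cjX hx).maxQ`, `Q₂^x = Q₂`), `E ≰ C(T)`; `a ∈ A \ C(W₂)` normalises `E` and
`E ⊓ C(T) = (A₀ ⊓ C(T)) W₂`; `T^a ≤ Q₂ ≤ B^x`, `T ≤ Q₂ = Q₂^a ≤ B^{xa}`.  `pat` for `h₁.cj x`: `a`
normalises `Y₁^x ≤ 𝐙[B^x]`, `B^x` centralises it, so `X₂ ≤ B^x ⊔ ⟨a⟩` normalises it and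
`(h₂.cjX hx).inv` gives `Y₁^x ≤ C₂`, i.e. `Y₁ ≤ C₂`. -/
theorem Rq.ylem (h₁ : Rq B X₁ W₁) (h₂ : Rq B X₂ W₂) (hc : W₁ ≤ 𝐂[W₂]) (ne : W₁ ≠ W₂) :
    ⁅W₁, B⁆ ≤ 𝐅[X₂, W₂] := by
  obtain ⟨A', hA', hn'⟩ := h₂.a0 h₁ (cent_symm hc) ne.symm
  have e : 𝐐[B, W₂] ⊔ 𝐐[B, W₁] = B := le_antisymm (sup_le inf_le_left inf_le_left)
    ((h₁.full (h₂.maxQ hA') hn').1.ge.trans (sup_le_sup_right hA'.1 _))
  obtain ⟨A, hA, hn⟩ := h₁.a0 h₂ hc ne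
  obtain ⟨x, hx, hx'⟩ := h₂.exN
  by_cases c : A ⊓ 𝐂[W₂] ≤ 𝐂[cj(x, W₁)]
  · rw [← h₁.comm_eq e]
    exact (commutator_mono le_sup_left le_rfl).trans (h₂.inv ((cle (cent_symm hc) (cent_symm inf_le_right)).trans
      ((h₁.comm_eq e).trans_le h₁.quad)) (le_normalizer_commutator (h₁.norm_of_cent h₂ hc hA hn hx hx' c) h₂.nQ))
  have hB := h₁.maxQ hA
  have f3 := (h₂.full hB hn).2.2
  have t : cj(x, W₁) ≤ 𝐐[B, W₂] := cj_le_of_mem_normalizer (le_inf h₁.WB hc) (h₂.nQ hx)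
  have s : 𝐐[B, W₂] ≤ cj(x, B) := (cj_of_mem_normalizer (h₂.nQ hx)).ge.trans (cj_mono x inf_le_left)
  obtain ⟨a, ha, ha'⟩ := SetLike.not_le_iff_exists.1 hn
  have na := h₂.nQ (h₂.BX (hB.1 ha))
  have p := (h₁.cj x).pat (mem_maxEA_of_card_le (map_mem_maxEA (conj_inj x) f3)
    ((sup_le (inf_le_inf_right _ hB.1) h₂.WQ).trans s) f3.2.1 (card_cj x _).le)
    (fun k => c (le_sup_left.trans k)) (key h₂ hB le_sup_right le_rfl ha)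
    (key h₂ hB (le_inf le_sup_right (cent_symm (t.trans inf_le_right))) inf_le_left ha)
    ((cj_le_of_mem_normalizer t na).trans s) (t.trans ((cj_of_mem_normalizer na).ge.trans (cj_mono a s)))
  have i := (h₂.cjX hx).inv (h₁.cj x).quad ((h₂.gen hx hx' (hB.1 ha) ha').trans (sup_le
    ((cent_symm ((h₁.cj x).quad.trans (Z_le_cent _))).trans (centralizer_le_normalizer' _)) (zpowers_le.2 p)))
  rwa [commutator_cj, ← cj_of_mem_normalizer (h₂.nC hx), cj_le_cj_iff] at i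

end Cfsg.Agent.OD
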