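import Cfsg.Agent.OD.CmL
import Cfsg.Agent.FT.BG3_8
import Cfsg.Agent.Inv.RankOne
import Cfsg.Agent.Grp.Fitting

/-! # The operator group: structure of invariant solvable subgroups (S4008, captain helper80).
API: Solv/ExtAction (`Ext.*`); templates Fuk/Basic (`Cy.sub`, `Cy.quot`, `Cy.exists_gen`). -/

set_option autoImplicit false
set_option linter.unusedSectionVars false
set_option linter.unusedVariables false

namespace Cfsg.Agent.OD

open Cfsg.Agent.PLocal hiding centralizer_anti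
open Subgroup Cfsg Cfsg.Agent.PLocal.Amb Cfsg.Agent.PLocal.TV
open Cfsg.Agent.PLocal.SL2Nat Cfsg.Agent.PLocal.Bk
open Cfsg.Agent.PLocal.CP (IsCharP MinOver ncl)
open Cfsg.Agent.Baum Cfsg.Agent.Solv
open scoped commutatorElement MatrixGroups Cfsg.Agent.PLocal.CP

variable {A G : Type*} [Group A] [Group G] [Finite A] [Finite G] [MulDistribMulAction A G]
  {H S P K : Subgroup G} {a : A} {w x : G}

theorem cen_of_odd {D V : Subgroup G} (hD : Odd (Nat.card D)) (hV : IsPGroup 2 V) (h1 : D ≤ 𝐍[V])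
    (h2 : V ≤ 𝐍[D]) : D ≤ 𝐂[V] := fun ρ hρ v hv => by
  have := Fact.mk Nat.prime_two
  refine (commutatorElement_eq_one_iff_mul_comm.1 (eq_one_of_isPGroup_of_coprime hV (x := ⁅ρ, v⁆)
    (mul_mem (conj_mem_of_mem_normalizer (h1 hρ) hv) (inv_mem hv))
    (hD.of_dvd_nat (orderOf_dvd_natCard D ?_)).coprime_two_right)).symm
  rw [commutatorElement_def, mul_assoc, mul_assoc, ← mul_assoc v]
  exact mul_mem hρ (conj_mem_of_mem_normalizer (h2 hv) (inv_mem hρ))

namespace Od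

variable (h : Od A G)
include h

/-- `zpowers_eq_top_of_prime_card` -/
theorem gen (a1 : a ≠ 1) : zpowers a = ⊤ := by
  have := Fact.mk h.pr
  exact zpowers_eq_top_of_prime_card rfl a1

theorem fix_all (a1 : a ≠ 1) (e : a • x = x) (b : A) : b • x = x :=
  (zpowers_le.2 e : zpowers a ≤ MulAction.stabilizer A x) ((h.gen a1).ge (mem_top b))

theorem exists_ne : ∃ a : A, a ≠ 1 :=
  have := Finite.one_lt_card_iff_nontrivial.1 h.pr.one_lt
  _root_.exists_ne 1

theorem copH (H : Subgroup G) : (Nat.card A).Coprime (Nat.card H) :=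
  h.cop.coprime_dvd_right (card_subgroup_dvd_card H)

theorem solvA : Group.IsSolvable A := by
  have := Fact.mk h.pr
  have : IsCyclic A := isCyclic_of_prime_card (p := Nat.card A) rfl
  let _ := IsCyclic.commGroup (α := A)
  infer_instance

/-- otherwise a power of `x` is a fixed involution -/
theorem odd (hx : ∀ a : A, a • x = x) : Odd (orderOf x) := by
  by_contra n
  obtain ⟨k, hk⟩ := Nat.not_odd_iff_even.1 n
  have := orderOf_pos x
  have := Nat.le_of_dvd (by omega) (orderOf_dvd_of_pow_eq_one (h.nf (x ^ k)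
    (by rw [← pow_add, ← hk, pow_orderOf_eq_one]) fun a => by rw [smul_pow', hx]))
  omega

theorem sub [MulDistribMulAction A H] (hs : ∀ (a : A) (x : H), ((a • x : H) : G) = a • (x : G)) :
    Od A H := by
  exact ⟨h.pr, h.od, h.copH H, fun w w2 hw =>
    Subtype.ext (h.nf w (congrArg Subtype.val w2) fun a => by rw [← hs, hw])⟩

/-- `Ext.exists_fixed_lift`, `odd` -/
theorem quot {N : Subgroup G} [N.Normal] [MulDistribMulAction A (G ⧸ N)] (iN : Ext.Inv A N)
    (hq : ∀ (a : A) (x : G), a • (x : G ⧸ N) = ((a • x : G) : G ⧸ N)) : Od A (G ⧸ N) := by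
  refine ⟨h.pr, h.od, h.cop.coprime_dvd_right (card_quotient_dvd_card N), fun w w2 hw => ?_⟩
  obtain ⟨c, hc, rfl⟩ := Ext.exists_fixed_lift hq iN (h.copH N) (Or.inl h.solvA) w hw
  exact orderOf_eq_one_iff.1 (Nat.eq_one_of_dvd_coprimes (h.odd hc).coprime_two_right
    (orderOf_map_dvd (QuotientGroup.mk' N) c) (orderOf_dvd_of_pow_eq_one (by rwa [sq])))

/-- All `b • w` are conjugate to `w` (`gen`), so `Ext.glauberman_exists` (`X = ConjAct`-set `G`,
`K = ⊤`; or count: `A` is an `r`-group acting on the class, whose size divides `|G|`) gives a fixed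
conjugate of `w`. -/
theorem nc (w2 : w * w = 1) (a1 : a ≠ 1) (e : IsConj w (a • w)) : w = 1 := by
  have k : ∀ n : ℕ, IsConj w (a ^ n • w) := fun n => by
    induction n with
    | zero => rw [pow_zero, one_smul]
    | succ n ih => rw [pow_succ', mul_smul]; exact e.trans ((Ext.hom G a).map_isConj ih)
  let _ : MulAction G G :=
    { smul := fun k x => k * x * k⁻¹
      one_smul := fun x => by change 1 * x * 1⁻¹ = x; simp
      mul_smul := fun a b x => by change a * b * x * (a * b)⁻¹ = a * (b * x * b⁻¹) * a⁻¹; group }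
  obtain ⟨g, -, hg⟩ := Ext.glauberman_exists (A := A) (G := G) (X := G) (fun a k x => by
    change a • (k * x * k⁻¹) = a • k * a • x * (a • k)⁻¹
    rw [smul_mul', smul_mul', smul_inv']) ⊤ Ext.inv_top (h.copH ⊤) (Or.inl h.solvA) w (fun b => by
      obtain ⟨n, rfl⟩ := mem_powers_iff_mem_zpowers.2 ((h.gen a1).ge (mem_top b))
      obtain ⟨c, hc⟩ := isConj_iff.1 (k n)
      exact ⟨c, mem_top c, hc.symm⟩)
  exact conj_eq_one_iff.1 (h.nf (g * w * g⁻¹) (by rw [conj_mul, w2, mul_one, mul_inv_cancel]) hg)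

/-- no fixed points on an invariant 2-group -/
theorem fpf (hP : IsPGroup 2 P) (hx : x ∈ P) (e : ∀ a : A, a • x = x) : x = 1 := by
  have := Fact.mk Nat.prime_two
  exact eq_one_of_isPGroup_of_coprime hP hx (h.odd e).coprime_two_right

/-- The norm is trivial (copy `MP.fpf_prod` of MP/G0, or: `s ↦ s (a • s)⁻¹` is injective, so onto,
on `P`; for `x = s (a • s)⁻¹` the product `x (a • x) ⋯ (a ^ (r-1) • x)` telescopes to `1`). -/
theorem mem_of_orbit (hP : IsPGroup 2 P) (iP : Ext.Inv A P) (hx : x ∈ P)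
    (hK : ∀ a : A, a ≠ 1 → a • x ∈ K) : x ∈ K := by
  obtain ⟨a, a1⟩ := h.exists_ne
  let f : P → P := fun s => ⟨s * (a • (s : G))⁻¹, mul_mem s.2 (inv_mem (iP a s s.2))⟩
  have hi : Function.Injective f := fun s t e => by
    have e1 : (s : G) * (a • (s : G))⁻¹ = t * (a • (t : G))⁻¹ := congrArg Subtype.val e
    refine Subtype.ext (inv_mul_eq_one.1 (h.fpf hP (mul_mem (inv_mem t.2) s.2) (h.fix_all a1 ?_))).symm
    rw [smul_mul', smul_inv', eq_inv_mul_iff_mul_eq, ← mul_assoc, ← e1, inv_mul_cancel_right]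
  obtain ⟨s, hs⟩ := Finite.injective_iff_surjective.1 hi ⟨x, hx⟩
  obtain rfl : (s : G) * (a • (s : G))⁻¹ = x := congrArg Subtype.val hs
  have k : ∀ n, n < orderOf a → a • (s : G) * (a ^ (n + 1) • (s : G))⁻¹ ∈ K := fun n hn => by
    induction n with
    | zero => simp
    | succ n ih =>
      have := mul_mem (ih (by omega)) (hK _ (pow_ne_one_of_lt_orderOf (Nat.succ_ne_zero n) hn))
      rwa [smul_mul', smul_inv', ← mul_smul, ← pow_succ, ← mul_assoc, inv_mul_cancel_right] at this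
  have := orderOf_pos a
  have := inv_mem (k (orderOf a - 1) (by omega))
  rwa [Nat.sub_add_cancel (by omega), pow_orderOf_eq_one, one_smul, mul_inv_rev, inv_inv] at this

theorem fix_odd [Group.IsSolvable G] (hO : pPrimeCore 2 G = ⊥) {p : ℕ} (hp : p.Prime) (p2 : p ≠ 2)
    (hP : IsPGroup p P) (iP : Ext.Inv A P) (hx : x ∈ P) (a : A) : a • x = x := by
  have := Fact.mk Nat.prime_two
  have := Fact.mk hp
  have := Ext.finite_SD (A := A) (G := G)
  have hQ := isPGroup_pCore' 2 G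
  have dj := IsPGroup.disjoint_of_ne p 2 p2 _ _ hP hQ
  have k := FT.hall_higman_solv (K := P.map (Ext.iG A G)) (R := (Ext.iA A G).range)
    (Ext.card_range_iA (A := A) (G := G) ▸ h.pr) (Ext.inv_iff_le_normalizer.1 iP)
    (by rw [Ext.card_map_iG, Ext.card_range_iA]; exact (h.copH P).symm)
    (fun Q h1 h2 _ => by
      rw [(IsPGroup.disjoint_of_ne p 2 p2 _ _ (hP.map _) h2).symm.eq_bot_of_le h1]; infer_instance)
    ((pCore 2 G).map (Ext.iG A G)) (Ext.isSolvable_map_iG inferInstance)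
    ((map_mono (le_top.trans (normalizer_eq_top _).ge)).trans (le_normalizer_map _))
    (Ext.inv_iff_le_normalizer.1 (Ext.inv_of_characteristic _))
    (by rw [Ext.card_map_iG, Ext.card_map_iG]; exact IsPGroup.coprime_card_of_ne p 2 p2 _ _ hP hQ)
    (by rw [Ext.card_map_iG, Ext.card_range_iA]; exact h.copH _)
    (eq_bot_iff.2 (by
      rintro _ ⟨⟨y, hy, rfl⟩, h2⟩
      rw [h.fpf hQ hy (Ext.iG_mem_centralizer_iff.1 h2), map_one]
      exact one_mem _))
  have k1 := k (commutator_mem_commutator (mem_map_of_mem _ (inv_mem hx)) ⟨a, rfl⟩)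
  rw [commutatorElement_def, show (Ext.iG A G x⁻¹)⁻¹ = Ext.iG A G x by rw [map_inv, inv_inv], mul_assoc,
    mul_assoc, ← mul_assoc (Ext.iA A G a), ← Ext.iG_smul, ← map_mul] at k1
  have k2 : x⁻¹ * a • x ∈ pCore 2 G := Grp.centralizer_pCore_le hO fun y hy =>
    Ext.iG_injective (A := A) (by rw [map_mul, map_mul (Ext.iG A G) _ y]; exact k1 _ ⟨y, hy, rfl⟩)
  exact (inv_mul_eq_one.1 (disjoint_def.1 dj (mul_mem (inv_mem hx) (iP a x hx)) k2)).symm

/-- `O(G) = 1`, `G` solvable, `Q = O₂(G)`, `C(Q) ≤ Q` (`Grp.centralizer_pCore_le`).  For odd `p` let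
`P` be an invariant Sylow `p`-subgroup (`Ext.exists_inv_sylow`); `FT.hall_higman_solv` in
`Ext.SD A G` (`K = P.map iG`, `R = iA.range`, `M = Q.map iG`; `K` has odd order so its 2-subgroups
are trivial; `M ⊓ C(R) = ⊥` by `fpf`) gives `x⁻¹ (a • x) ∈ C(Q) ⊓ P ≤ Q ⊓ P = 1`.  So the index of
`C = FixedPoints.subgroup A G` is prime to all odd `p`, `|C|` is odd, `|C| |S| = |G|`,
`IsComplement' C S` (`isComplement'_of_coprime`).  For `g = c s`: `g⁻¹ (a • g) = s⁻¹ (a • s) ∈ S`,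
so `Ext.comm A ⊤ ≤ S`; `S = Ext.comm A S` (`exists_fixed_mul_comm`, `fpf`), so `S = Ext.comm A ⊤` is
normal (`normal_comm_top`). -/
theorem core [Group.IsSolvable G] (hO : pPrimeCore 2 G = ⊥) (hS : IsSyl 2 S ⊤) (iS : Ext.Inv A S) :
    S.Normal ∧ ∀ g : G, ∃ c : G, (∀ a : A, a • c = c) ∧ c⁻¹ * g ∈ S := by
  have := Fact.mk Nat.prime_two
  have h1 : (FixedPoints.subgroup A G).index = 2 ^ _ := Nat.eq_prime_pow_of_unique_prime_dvd
    index_ne_zero_of_finite fun {p} hp hd => by_contra fun p2 => by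
      have := Fact.mk hp
      obtain ⟨P, iP⟩ := Ext.exists_inv_sylow h.cop (Or.inl h.solvA) p
      exact P.not_dvd_index (hd.trans (index_dvd_of_le fun x hx => h.fix_odd hO hp p2 P.isPGroup' iP hx))
  have h2 : ¬ 2 ∣ Nat.card (FixedPoints.subgroup A G) := fun hd => by
    obtain ⟨x, hx⟩ := exists_prime_orderOf_dvd_card' 2 hd
    have := h.odd x.2
    rw [orderOf_coe, hx] at this
    exact absurd this (by decide)
  have h3 := hS.card_eq_pow
  rw [card_top, ← (FixedPoints.subgroup A G).card_mul_index, h1, Nat.factorization_mul Nat.card_pos.ne'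
    (pow_ne_zero _ two_ne_zero), Finsupp.add_apply, Nat.factorization_eq_zero_of_not_dvd h2,
    Nat.factorization_pow_self Nat.prime_two, zero_add] at h3
  have h4 : IsComplement' (FixedPoints.subgroup A G) S := isComplement'_of_coprime
    (by rw [h3, ← h1, card_mul_index])
    (by rw [h3]; exact (((Nat.Prime.coprime_iff_not_dvd Nat.prime_two).2 h2).symm).pow_right _)
  have h5 : ∀ g : G, ∃ c : G, (∀ a : A, a • c = c) ∧ c⁻¹ * g ∈ S := fun g => by
    obtain ⟨⟨c, s⟩, rfl⟩ := (h4.existsUnique g).exists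
    exact ⟨c, c.2, by simp⟩
  refine ⟨?_, h5⟩
  rw [show S = Ext.comm A ⊤ from le_antisymm (fun s hs => ?_) (Ext.comm_le_iff.2 fun a g _ => ?_)]
  · exact Ext.normal_comm_top
  · obtain ⟨c, c1, c2, d, hd, rfl⟩ := Ext.exists_fixed_mul_comm iS (h.copH S) (Or.inl h.solvA) hs
    rw [h.fpf hS.pgrp c1 c2, one_mul]
    exact Ext.comm_mono le_top hd
  · obtain ⟨c, c1, c2⟩ := h5 g
    have := mul_mem (inv_mem c2) (iS a _ c2)
    rwa [smul_mul', smul_inv', c1, mul_inv_rev, inv_inv, mul_assoc, mul_inv_cancel_left] at this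

/-- `core` for `↥H ⧸ pPrimeCore 2 ↥H` (`exists_subAction`, `exists_quotAction`, `sub`, `quot`,
`Inv.eq_bot_of_odd_normal_quotient_core`, `IsSyl.map`), `D = (pPrimeCore 2 ↥H).map H.subtype`;
lift `c` by `Ext.exists_fixed_lift`. -/
theorem struct (iH : Ext.Inv A H) (sH : Group.IsSolvable H) (hS : IsSyl 2 S H) (iS : Ext.Inv A S) :
    ∃ D : Subgroup G, D ≤ H ∧ Odd (Nat.card D) ∧ H ≤ 𝐍[D] ∧ H ≤ 𝐍[D ⊔ S] ∧
      ∀ g ∈ H, ∃ c ∈ H, (∀ a : A, a • c = c) ∧ c⁻¹ * g ∈ D ⊔ S := by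
  have := Fact.mk Nat.prime_two
  obtain ⟨_, hs⟩ := Ext.exists_subAction iH
  have iN : Ext.Inv A (pPrimeCore 2 H) := Ext.inv_of_characteristic _
  obtain ⟨_, hq⟩ := Ext.exists_quotAction iN
  obtain ⟨T, hT⟩ := hS.exists_sylow
  have s1 := (isSyl_top T).map (QuotientGroup.mk' (pPrimeCore 2 H))
  rw [hT, map_top_of_surjective _ (QuotientGroup.mk'_surjective _)] at s1
  obtain ⟨n, k⟩ := ((h.sub hs).quot iN hq).core (Grp.pPrimeCore_quotient_pPrimeCore 2 H) s1
    ((iS.comap fun a x => (hs a x).symm).map hq)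
  have e : ((((S.subgroupOf H).map (QuotientGroup.mk' (pPrimeCore 2 H))).comap
      (QuotientGroup.mk' (pPrimeCore 2 H))).map H.subtype) = (pPrimeCore 2 H).map H.subtype ⊔ S := by
    rw [comap_map_eq, QuotientGroup.ker_mk', Subgroup.map_sup, map_subgroupOf_of_le hS.le, sup_comm]
  refine ⟨(pPrimeCore 2 H).map H.subtype, map_subtype_le _,
    Nat.coprime_two_right.1 (Grp.map_pPrimeCore_coprime 2 _), le_normalizer_map_subtype _,
    e ▸ le_normalizer_map_subtype _, fun g hg => ?_⟩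
  obtain ⟨c, c1, c2⟩ := k ((⟨g, hg⟩ : H) : H ⧸ pPrimeCore 2 H)
  obtain ⟨c, c3, rfl⟩ := Ext.exists_fixed_lift hq iN ((h.sub hs).copH _) (Or.inl h.solvA) c c1
  exact ⟨c, c.2, fun a => by rw [← hs, c3], e ▸ ⟨c⁻¹ * ⟨g, hg⟩, c2, rfl⟩⟩

/-- `S` an invariant Sylow 2-subgroup, `I = 𝐙[S] ≠ ⊥` (invariant: `map_omegaOne_center`),
`M = N(I) ≠ ⊤` (`O₂(G) = 1`), `D` from `struct` for `M`; `⁅D, I⁆ ≤ D ⊓ I = 1`
(`Cm.df0`-type argument).  `com`: `n = c y`, `y ∈ D ⊔ S ≤ C(I)`.  `inv`: `H ≠ ⊤` as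
`I ≤ O₂(H)`; `D'` from `struct` for `H` centralises `O₂(H) ≥ I`; Frattini (`IsSyl.frattini` for
`S ≤ D' ⊔ S`): `g = n x`, `n ∈ D' ⊔ S ≤ C(I)`, `x ∈ N(S) ≤ N(I)` (`normalizer_le_Z`). -/
theorem exists_al (hO : pCore 2 G = ⊥) (ev : 2 ∣ Nat.card G)
    (sv : ∀ H : Subgroup G, H ≠ ⊤ → Ext.Inv A H → Group.IsSolvable H) :
    ∃ S D : Subgroup G, Al A 𝐙[S] S D := by
  have := Fact.mk Nat.prime_two
  obtain ⟨T, iS⟩ := Ext.exists_inv_sylow h.cop (Or.inl h.solvA) 2
  have hS := isSyl_top T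
  generalize (T : Subgroup G) = S at iS hS
  have pI : IsPGroup 2 𝐙[S] := hS.pgrp.to_le (Z_le S)
  have ne : 𝐙[S] ≠ ⊥ := omegaOne_ne_bot_of_isPGroup hS.pgrp.to_inf_left
    (inf_centralizer_ne_bot hS.pgrp hS.pgrp le_normalizer fun e => hS.eq_bot_iff.1 e (by rwa [card_top]))
  have iI : Ext.Inv A 𝐙[S] := Ext.inv_of_map_eq fun a => by
    rw [map_omegaOne_center S (Ext.hom_injective a), iS.map_eq]
  have SN : S ≤ 𝐍[𝐙[S]] := le_normalizer.trans (normalizer_le_Z S)
  have SC : S ≤ 𝐂[𝐙[S]] := cent_symm (Z_le_cent S)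
  obtain ⟨D, d1, d2, d3, d4, d5⟩ := h.struct iI.normalizer (sv _ (fun e => ne (eq_bot_iff.2 (hO ▸
    le_pCore' (hn := normalizer_eq_top_iff.1 e) pI))) iI.normalizer) (hS.mono SN le_top) iS
  have DC := cen_of_odd d2 pI d1 (le_normalizer.trans d3)
  refine ⟨S, D, ⟨hS, le_rfl, d2, DC, d3, d4, normalizer_le_Z S⟩, h, ne, iS, iI, fun n hn w hw a => ?_,
    fun H iH h1 h2 g hg => ?_⟩
  · obtain ⟨c, -, c1, c2⟩ := d5 n hn
    have k : ∀ w ∈ 𝐙[S], n * w * n⁻¹ = c * w * c⁻¹ := fun w hw => by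
      have := sup_le DC SC c2 w hw
      rw [← mul_inv_cancel_left c n, mul_assoc c, ← this]; group
    rw [k w hw, k _ (iI a w hw), smul_mul', smul_mul', smul_inv', c1]
  · obtain ⟨E, e1, e2, e3, e4, -⟩ := h.struct iH (sv H (fun e => ne (eq_bot_iff.2 (by
      rwa [e, CP.pCoreOf_top, hO] at h2))) iH) (hS.mono h1 le_top) iS
    have EC := (cen_of_odd e2 (isPGroup_pCoreOf 2 H) (e1.trans (le_normalizer_pCoreOf 2 H))
      ((pCoreOf_le 2 H).trans e3)).trans (centralizer_anti h2)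
    obtain ⟨n, hn, y, hy, rfl⟩ := (hS.mono le_sup_right le_top).frattini (e4 hg)
    exact mul_mem (centralizer_le_normalizer' _ (sup_le EC SC hn)) (normalizer_le_Z S hy)

end Od

end Cfsg.Agent.OD
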