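import Cfsg.Agent.OD.Defs

/-! # Rank one triples `Rq`, API part A (port of Baum/ApiA; S4008, captain helper80). -/

set_option autoImplicit false
set_option linter.unusedSectionVars false
set_option linter.unusedVariables false

namespace Cfsg.Agent.OD

open Cfsg.Agent.PLocal hiding centralizer_anti
open Subgroup Cfsg Cfsg.Agent.PLocal.Amb Cfsg.Agent.PLocal.TV
open Cfsg.Agent.PLocal.SL2Nat Cfsg.Agent.PLocal.Bk
open Cfsg.Agent.PLocal.CP (IsCharP MinOver ncl)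
open Cfsg.Agent.Baum
open scoped commutatorElement MatrixGroups Cfsg.Agent.PLocal.CP


variable {G : Type*} [Group G] [Finite G] {B X W A U : Subgroup G} {x y a a' b w w' z z' : G}

/-- the plane model of a rank one triple -/
structure Mq (B X W : Subgroup G) (F : Type) [Field F] [Fintype F] [CharP F 2]
    (D : SD (Fin 2 → F) W 𝐅[X, W]) : Prop extends Rq B X W where
  XN : X ≤ D.N
  imX : D.im X = (slG F).range
  imB : D.im B = Ui F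
  ker : X ⊓ D.ker ≤ 𝐂[W]
  gn : ∀ x ∈ X, D.act x ∉ 𝐍[Ui F] → X ≤ B ⊔ cj(x, B)

theorem Rq.md (h : Rq B X W) : ∃ (F : Type) (_ : Field F) (_ : Fintype F) (_ : CharP F 2)
    (D : SD (Fin 2 → F) W 𝐅[X, W]), Mq B X W F D :=
  let ⟨F, _, _, _, D, h1, h2, h3, h4, h5⟩ := h.sd
  ⟨F, _, _, inferInstance, D, h, h1, h2, h3, h4, h5⟩

namespace Mq

variable {F : Type} [Field F] [Fintype F] [CharP F 2] {D : SD (Fin 2 → F) W 𝐅[X, W]}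
  (h : Mq B X W F D)
include h

theorem BN : B ≤ D.N := h.BX.trans h.XN

theorem actC (hx : x ∈ X) (e : D.act x = 1) : x ∈ 𝐂[W] := h.ker ⟨hx, D.mem_ker.2 ⟨h.XN hx, e⟩⟩

theorem actX (hx : x ∈ X) : D.act x ∈ (slG F).range := h.imX ▸ D.act_mem_im hx

theorem actB (hb : b ∈ B) : D.act b ∈ Ui F := h.imB ▸ D.act_mem_im hb

theorem lift {s : GA (Fin 2 → F)} (hs : s ∈ (slG F).range) : ∃ x ∈ X, D.act x = s :=
  (D.mem_im' h.XN).1 (h.imX.ge hs)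

theorem idx (hA : A ≤ X) : (𝐂[W]).relIndex A = Nat.card (D.im A) := by
  have e : A ⊓ D.ker = 𝐂[W] ⊓ A := le_antisymm
    (le_inf ((inf_le_inf_right _ hA).trans h.ker) inf_le_left)
    (le_inf inf_le_right (inf_le_left.trans D.centralizer_le_ker))
  have h1 := D.card_im_mul (hA.trans h.XN)
  rw [e, ← card_inf_mul_relIndex 𝐂[W] A, mul_comm] at h1
  exact (Nat.eq_of_mul_eq_mul_left Nat.card_pos h1).symm

theorem q : 𝐪[B, W] = Nat.card F := by rw [h.idx h.BX, h.imB, card_Ui]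

theorem cW : Nat.card W = Nat.card F * Nat.card F * Nat.card 𝐅[X, W] := by
  rw [← D.card_mul, PL.card_V]

omit h in
theorem cL : Nat.card (D.pre (ln F)) = Nat.card F * Nat.card 𝐅[X, W] := by
  rw [← D.card_pre, card_ln]

theorem full0 (hA : A ∈ maxEA 2 B) (hn : ¬ A ≤ 𝐂[W]) : D.im A = Ui F ∧
    (𝐂[W]).relIndex A ≤ (𝐂[A]).relIndex W ∧ W ⊓ 𝐂[A] = D.pre (ln F) := by
  have hAX := hA.1.trans h.BX
  have h2 := h.idx hAX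
  have hle := (D.im_mono hA.1).trans h.imB.le
  have h3 := card_le_card_of_le hle
  obtain ⟨a, ha, ha'⟩ := SetLike.not_le_iff_exists.1 hn
  have h4 : 𝐂[A] ⊓ W ≤ D.pre (ln F) := by
    rw [inf_comm, ← fx_zpowers_of_mem_Ui (hle (D.act_mem_im ha)) fun k => ha' (h.actC (hAX ha) k)]
    exact (D.inf_centralizer_le_pre (hAX.trans h.XN)).trans
      (D.pre_mono (fx_anti (zpowers_le.2 (D.act_mem_im ha))))
  have h5 := Ex.le_relIndex D h4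
  rw [card_ln] at h5
  have h6 := Nat.le_of_mul_le_mul_left h5 Nat.card_pos
  have h7 := relIndex_le_of_member hA h.ea h.WB
  rw [card_Ui] at h3
  refine ⟨eq_of_le_of_card_le hle (by rw [card_Ui]; omega), by omega, ?_⟩
  rw [inf_comm]
  refine eq_of_le_of_card_le h4 (Nat.le_of_mul_le_mul_right (c := Nat.card F) ?_ Nat.card_pos)
  have h8 := card_inf_mul_relIndex 𝐂[A] W
  rw [show (𝐂[A]).relIndex W = Nat.card F by omega] at h8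
  rw [h8, cL, h.cW]
  exact (mul_right_comm _ _ _).le

theorem preZ : D.pre (ln F) = 𝐙[B] := by
  refine le_antisymm ?_ ?_
  · have k : ∀ A ∈ maxEA 2 B, D.pre (ln F) ≤ 𝐂[A] := fun A hA => by
      by_cases c : A ≤ 𝐂[W]
      · exact (D.pre_le _).trans (cent_symm c)
      · exact (h.full0 hA c).2.2.ge.trans inf_le_right
    have e := isEA_mono h.ea (D.pre_le (ln F))
    obtain ⟨A, hA, -⟩ := h.off
    rw [← h.zj]
    exact isEA_le_omegaOne e (le_inf ((le_of_mem_maxEA_of_centralizes hA ((D.pre_le _).trans h.WB)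
      e.2 (k A hA)).trans (le_thompsonSubgroupOf hA))
      (cent_symm (thompsonSubgroupOf_le_iff.2 fun A hA => cent_symm (k A hA))))
  · rw [← fx_Ui, ← h.imB]
    exact (le_inf h.ZW (Z_le_cent B)).trans (D.inf_centralizer_le_pre h.BN)

theorem cZ : Nat.card 𝐙[B] = Nat.card F * Nat.card 𝐅[X, W] := by rw [← h.preZ, cL]

theorem nrm (x : G) (hx : x ∈ X) (e : D.act x ∈ 𝐍[Ui F]) : x ∈ 𝐍[𝐙[B]] :=
  mem_normalizer_of_cj_le (cj_le_iff_forall.2 fun z hz => h.preZ.le ⟨D.conj_mem (h.XN hx) (h.ZW hz), by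
    rw [← D.act_ψ (h.XN hx) (h.ZW hz)]
    exact smul_mem_ln e (h.preZ.ge hz).2⟩)

theorem nrm0 (hx : x ∈ X) (e : (D.act x • (![1, 0] : Fin 2 → F)) 1 = 0) : D.act x ∈ 𝐍[Ui F] := by
  obtain ⟨s, hs⟩ := h.actX hx
  rw [← hs] at e ⊢
  exact PL.slG_mem_normalizer.2 (by simpa [PL.smul1] using e)

theorem nrm_iff (hx : x ∈ X) : x ∈ 𝐍[𝐙[B]] ↔ (D.act x • (![1, 0] : Fin 2 → F)) 1 = 0 := by
  refine ⟨fun e => ?_, fun e => h.nrm x hx (h.nrm0 hx e)⟩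
  obtain ⟨z, hz, e'⟩ := D.surj (![1, 0] : Fin 2 → F)
  have k : z ∈ 𝐙[B] := h.preZ.le ⟨hz, by rw [e']; rfl⟩
  rw [← e', D.act_ψ (h.XN hx) hz]
  exact (h.preZ.ge (conj_mem_of_mem_normalizer e k)).2

end Mq

namespace Rq

variable (h : Rq B X W)
include h

/-- transport (`SD.push`, `SD.transfer`, `SD.cast`; `map_mem_maxEA`, `mem_normalizer_map_iff`,
`map_cj`; `W ⊓ C(X)` and `B ⊓ C(W)` commute with injective maps). -/
theorem map {G' : Type*} [Group G'] [Finite G'] {f : G →* G'} (hf : Function.Injective f) :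
    Rq (B.map f) (X.map f) (W.map f) := by
  obtain ⟨F, i1, i2, i3, D, h1, h2, h3, h4, h5⟩ := h.sd
  obtain ⟨A, hA, hn⟩ := h.off
  obtain ⟨t1, t2, t3, t4⟩ := SD.transfer hf D (D.push hf) (SD.push_ψ hf D)
  refine ⟨h.pg.map f, ?_, map_mono h.BX, ?_, map_mono h.WB, isEA_map h.ea f, ?_, ?_,
    ⟨_, map_mem_maxEA hf hA, fun c => hn fun a ha => (mem_centralizer_map hf).1 (c ⟨a, ha, rfl⟩)⟩,
    ?_, ?_⟩
  · rw [← map_thompsonSubgroupOf B hf, ← map_omegaOne_center _ hf, ← map_omegaOne_center _ hf, h.zj]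
  · rw [← map_omegaOne_center _ hf]; exact map_mono h.ZW
  · rintro _ ⟨x, hx, rfl⟩; exact (mem_normalizer_map_iff hf).2 (h.nW hx)
  · rw [← map_Zs hf]
    rintro _ ⟨x, hx, rfl⟩; exact (mem_normalizer_map_iff hf).2 (h.nQ hx)
  · exact have := Fact.mk Nat.prime_two; h.syl.map f
  · rw [← map_Zs hf]
    refine ⟨F, i1, i2, i3, D.push hf, ?_, (t4 X).trans h2, (t4 B).trans h3, ?_, ?_⟩
    · rintro _ ⟨x, hx, rfl⟩; exact (t1 x).2 (h1 hx)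
    · rintro _ ⟨⟨x, hx, rfl⟩, hk⟩; exact (mem_centralizer_map hf).2 (h4 ⟨hx, (t3 x).1 hk⟩)
    · rintro _ ⟨x, hx, rfl⟩ e
      rw [← map_cj, ← Subgroup.map_sup]
      exact map_mono (h5 x hx (t2 x ▸ e))

theorem gen0 (x : G) (hx : x ∈ X) (hn : x ∉ 𝐍[𝐙[B]]) : X ≤ B ⊔ cj(x, B) := by
  obtain ⟨F, _, _, _, D, m⟩ := h.md
  exact m.gn x hx fun e => hn (m.nrm x hx e)

/-- `map` for `MulAut.conj g`. -/
theorem cj (g : G) : Rq cj(g, B) cj(g, X) cj(g, W) := by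
  exact h.map (Bk.conj_inj g)

theorem cjX (hx : x ∈ X) : Rq cj(x, B) X W := by
  have := h.cj x
  rwa [cj_of_mem hx, cj_of_mem_normalizer (h.nW hx)] at this

theorem sqW (hw : w ∈ W) : w * w = 1 := by
  rw [← sq]; exact (isEA_iff.1 h.ea).2 w hw

theorem Wc : W ≤ 𝐂[W] := by
  exact fun w hw a ha => (isEA_iff.1 h.ea).1 a ha w hw

theorem WQ : W ≤ 𝐐[B, W] := by
  exact le_inf h.WB h.Wc

theorem Z_eq : 𝐙[B] = W ⊓ 𝐂[B] := by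
  exact le_antisymm (le_inf h.ZW (Z_le_cent B)) fun w hw => mem_Z (h.WB hw.1) hw.2 (h.sqW hw.1)

theorem CZ : 𝐅[X, W] ≤ 𝐙[B] := by
  exact (inf_le_inf_left _ (centralizer_anti h.BX)).trans h.Z_eq.ge

theorem nC : X ≤ 𝐍[𝐅[X, W]] := (cent_symm inf_le_right).trans (centralizer_le_normalizer' _)

theorem ZxW (hx : x ∈ X) : cj(x, 𝐙[B]) ≤ W := cj_le_of_mem_normalizer h.ZW (h.nW hx)

theorem CZx (hx : x ∈ X) : 𝐅[X, W] ≤ cj(x, 𝐙[B]) := Z_cj x B ▸ (h.cjX hx).CZ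

theorem nab (hA : A ≤ W) (hU : U ≤ W) : A ≤ 𝐍[U] :=
  hA.trans (h.Wc.trans ((centralizer_anti hU).trans (centralizer_le_normalizer' U)))

theorem idxZ : (𝐙[B]).relIndex W = 𝐪[B, W] := by
  obtain ⟨F, _, _, _, D, m⟩ := h.md
  have := card_mul_relIndex_of_le h.ZW
  rw [m.cZ, m.cW, mul_right_comm (Nat.card F) (Nat.card F)] at this
  exact (Nat.eq_of_mul_eq_mul_left (Nat.mul_pos Nat.card_pos Nat.card_pos) this).trans m.q.symm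

theorem idxC : (𝐅[X, W]).relIndex 𝐙[B] = 𝐪[B, W] := by
  obtain ⟨F, _, _, _, D, m⟩ := h.md
  have := card_mul_relIndex_of_le h.CZ
  rw [m.cZ, mul_comm (Nat.card F)] at this
  exact (Nat.eq_of_mul_eq_mul_left Nat.card_pos this).trans m.q.symm

/-- `q = |F| = 2 ^ n`, `n ≥ 1`. -/
theorem field : ∃ (F : Type) (_ : Field F) (_ : Fintype F) (n : ℕ), 1 ≤ n ∧
    Fintype.card F = 2 ^ n ∧ Fintype.card F = 𝐪[B, W] := by
  obtain ⟨F, _, _, _, D, m⟩ := h.md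
  obtain ⟨n, -, e⟩ := FiniteField.card F 2
  exact ⟨F, ‹_›, ‹_›, n, n.2, e, by rw [m.q, Nat.card_eq_fintype_card]⟩

theorem two_le : 2 ≤ 𝐪[B, W] := by
  obtain ⟨F, _, _, n, -, -, e⟩ := h.field
  exact e ▸ Fintype.one_lt_card

theorem four_le (hq : 2 < 𝐪[B, W]) : 4 ≤ 𝐪[B, W] := by
  obtain ⟨F, _, _, n, h1, e1, e⟩ := h.field
  rw [← e, e1] at hq ⊢
  exact Nat.pow_le_pow_right two_pos (show 2 ≤ n from
    (Nat.pow_lt_pow_iff_right one_lt_two).1 (by rwa [pow_one]))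

/-- `member_replace` for the last part. -/
theorem full (hA : A ∈ maxEA 2 B) (hn : ¬ A ≤ 𝐂[W]) :
    A ⊔ 𝐐[B, W] = B ∧ W ⊓ 𝐂[A] = 𝐙[B] ∧ (A ⊓ 𝐂[W]) ⊔ W ∈ maxEA 2 B := by
  obtain ⟨F, _, _, _, D, m⟩ := h.md
  obtain ⟨a1, a2, a3⟩ := m.full0 hA hn
  refine ⟨le_antisymm (sup_le hA.1 inf_le_left) fun b hb => ?_, a3.trans m.preZ,
    member_replace hA h.ea h.WB a2⟩
  obtain ⟨a, ha, -, k, hk, rfl⟩ := D.exists_mul_ker (m.BN hb) (a1.ge (m.actB hb))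
  have := (Subgroup.mul_mem_cancel_left _ (hA.1 ha)).1 hb
  exact mul_mem_sup ha ⟨this, m.ker ⟨h.BX this, hk⟩⟩

/-- `(A ⊓ C(W)) W ≤ Q` for the offender `A`; `maxEA_subset_of_mem`. -/
theorem maxQ : maxEA 2 𝐐[B, W] ⊆ maxEA 2 B := by
  obtain ⟨A, hA, hn⟩ := h.off
  exact maxEA_subset_of_mem (h.full hA hn).2.2 (sup_le (inf_le_inf_right _ hA.1) h.WQ) inf_le_left

theorem le_member (hA : A ∈ maxEA 2 B) (hc : A ≤ 𝐂[W]) : W ≤ A := by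
  exact le_of_mem_maxEA_of_centralizes hA h.WB h.ea.2 (cent_symm hc)

theorem WJ : W ≤ 𝐉[2, B] := by
  obtain ⟨A, hA, hn⟩ := h.off
  exact le_sup_right.trans (le_thompsonSubgroupOf (h.full hA hn).2.2)

/-- `pre_cm`, `cm_Ui`. -/
theorem YC : ⁅W, B⁆ ⊔ 𝐅[X, W] = 𝐙[B] := by
  obtain ⟨F, _, _, _, D, m⟩ := h.md
  rw [← D.pre_cm m.BN, m.imB, cm_Ui, m.preZ]

theorem quad : ⁅W, B⁆ ≤ 𝐙[B] := by
  exact le_sup_left.trans h.YC.le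

theorem not_YC : ¬ ⁅W, B⁆ ≤ 𝐅[X, W] := by
  intro c
  have := h.two_le
  rw [← h.idxC, relIndex_eq_one.2 (h.YC.ge.trans (sup_le c le_rfl))] at this
  omega

/-- `fx_zpowers_of_mem_Ui`. -/
theorem ti (hw : w ∈ W) (hb : b ∈ B) (e : ⁅w, b⁆ ∈ 𝐅[X, W]) : b ∈ 𝐂[W] ∨ w ∈ 𝐙[B] := by
  obtain ⟨F, _, _, _, D, m⟩ := h.md
  refine (em (D.act b = 1)).imp (m.actC (h.BX hb)) fun c => m.preZ.le ⟨hw, ?_⟩
  rw [← fx_zpowers_of_mem_Ui (m.actB hb) c, mem_fx_zpowers, D.act_smul_eq_iff (m.BN hb) hw,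
    ← commutatorElement_inv]
  exact inv_mem e

/-- otherwise `SL₂ = im X` normalises `Ui` (`exists_Ui_sup_cj`, `Ui_sup_cj`, or `nn`). -/
theorem exN : ∃ x ∈ X, x ∉ 𝐍[𝐙[B]] := by
  obtain ⟨F, _, _, _, D, m⟩ := h.md
  obtain ⟨x, hx, e⟩ := m.lift ⟨nn 1 one_ne_zero, rfl⟩
  exact ⟨x, hx, fun c => by simpa [e, PL.nn_smul] using (m.nrm_iff hx).1 c⟩

/-- `Z ⊓ Z^x` centralises `B ⊔ B^x ≥ X` (`gen0`); then `|Z Z^x| = |W|` by `idxZ`, `idxC`. -/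
theorem two (hx : x ∈ X) (hn : x ∉ 𝐍[𝐙[B]]) :
    𝐙[B] ⊓ cj(x, 𝐙[B]) ≤ 𝐅[X, W] ∧ 𝐙[B] ⊔ cj(x, 𝐙[B]) = W := by
  have h1 : 𝐙[B] ⊓ cj(x, 𝐙[B]) ≤ 𝐅[X, W] := by
    refine le_inf (inf_le_left.trans h.ZW) (le_trans ?_ (centralizer_anti (h.gen0 x hx hn)))
    rw [Amb.centralizer_sup, ← Z_cj]
    exact inf_le_inf (Z_le_cent _) (Z_le_cent _)
  refine ⟨h1, eq_of_le_of_card_le (sup_le h.ZW (h.ZxW hx))
    (Nat.le_of_mul_le_mul_right (c := Nat.card 𝐅[X, W]) ?_ Nat.card_pos)⟩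
  refine le_trans ?_ (Nat.mul_le_mul_left _ (card_le_card_of_le h1))
  have h2 := card_mul_relIndex_of_le h.CZ
  rw [card_sup_mul_card_inf (h.nab h.ZW (h.ZxW hx)), card_cj, ← card_mul_relIndex_of_le h.ZW,
    h.idxZ, mul_assoc, mul_comm _ (Nat.card 𝐅[X, W]), ← h.idxC, h2]

theorem inv (hU : U ≤ 𝐙[B]) (hn : X ≤ 𝐍[U]) : U ≤ 𝐅[X, W] := by
  obtain ⟨x, hx, hn'⟩ := h.exN
  exact (le_inf hU ((cj_of_mem_normalizer (hn hx)).ge.trans (cj_mono x hU))).trans (h.two hx hn').1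

/-- `x z x⁻¹ ∈ Z ⊓ Z^x ≤ C` would give `z ∈ C`. -/
theorem line (hx : x ∈ X) (hz : z ∈ 𝐙[B]) (hz' : z ∉ 𝐅[X, W]) (e : x * z * x⁻¹ ∈ 𝐙[B]) :
    x ∈ 𝐍[𝐙[B]] := by
  by_contra hn
  simpa [mul_assoc, hz'] using
    inv_conj_mem_of_mem_normalizer (h.nC hx) ((h.two hx hn).1 ⟨e, conj_mem_cj x hz⟩)

/-- If `b` normalised `B^x` then for `w ∈ Z^x \ Z`, `⁅w, b⁆ ∈ Z^x ⊓ Z ≤ C`, against `ti`. -/
theorem moves (hx : x ∈ X) (hn : x ∉ 𝐍[𝐙[B]]) (hb : b ∈ B) (hb' : b ∉ 𝐂[W]) : b ∉ 𝐍[𝐙[cj(x, B)]] := by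
  intro c
  obtain ⟨h1, h2⟩ := h.two hx hn
  obtain ⟨w, hw, hw'⟩ := SetLike.not_le_iff_exists.1 (show ¬ cj(x, 𝐙[B]) ≤ 𝐙[B] from fun e => by
    have := h.two_le
    rw [← h.idxZ, relIndex_eq_one.2 (h2.ge.trans (sup_le le_rfl e))] at this
    omega)
  have h3 := c
  rw [Z_cj] at h3
  refine (h.ti (h.ZxW hx hw) hb (h1 (mem_inf.2
    ⟨h.quad (commutator_mem_commutator (h.ZxW hx hw) hb), ?_⟩))).elim hb' hw'
  simpa only [commutatorElement_def, mul_assoc] using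
    Subgroup.mul_mem _ hw (conj_mem_of_mem_normalizer h3 (inv_mem hw))

/-- `(h.cjX hx).gen0 a` and `moves`. -/
theorem gen (hx : x ∈ X) (hn : x ∉ 𝐍[𝐙[B]]) (ha : a ∈ B) (ha' : a ∉ 𝐂[W]) :
    X ≤ cj(x, B) ⊔ zpowers a := by
  exact ((h.cjX hx).gen0 a (h.BX ha) (h.moves hx hn ha ha')).trans (sup_le le_sup_left
    (cj_le_of_mem le_sup_left (mem_sup_right (mem_zpowers a))))

/-- `Ui` is transitive on the lines `≠ ln`: `v = act x • e₀`, `v' = act y • e₀` have nonzero second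
coordinate; choose `uu a` with `uu a • v ∈ F v'`; then `mem_normalizer_Ui`. -/
theorem trans (hx : x ∈ X) (hn : x ∉ 𝐍[𝐙[B]]) (hy : y ∈ X) (hn' : y ∉ 𝐍[𝐙[B]]) :
    ∃ b ∈ B, (b * x)⁻¹ * y ∈ 𝐍[𝐙[B]] := by
  obtain ⟨F, _, _, _, D, m⟩ := h.md
  rw [m.nrm_iff hx] at hn
  rw [m.nrm_iff hy] at hn'
  obtain ⟨s, hs⟩ := m.actX hx
  obtain ⟨b, hb, e⟩ := (D.mem_im' m.BN).1 (m.imB.ge (PL.uu_mem_Ui
    ((D.act y • (![1, 0] : Fin 2 → F)) 0 / (D.act y • (![1, 0] : Fin 2 → F)) 1 -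
      (D.act x • (![1, 0] : Fin 2 → F)) 0 / (D.act x • (![1, 0] : Fin 2 → F)) 1)))
  have h1 := mul_mem (h.BX hb) hx
  refine ⟨b, hb, (m.nrm_iff (mul_mem (inv_mem h1) hy)).2 ?_⟩
  have h2 : D.act y • (![1, 0] : Fin 2 → F) = D.act (b * x) •
      ((D.act y • (![1, 0] : Fin 2 → F)) 1 / (D.act x • (![1, 0] : Fin 2 → F)) 1) •
        (![1, 0] : Fin 2 → F) := by
    rw [D.act_mul (m.BN hb) (m.XN hx), mul_smul, e]
    conv_rhs => rw [← hs, PL.slG_smul_smul, hs]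
    refine vec_ext ?_ ?_
    · rw [PL.uu0, Pi.smul_apply, Pi.smul_apply, smul_eq_mul, smul_eq_mul]; field_simp; ring
    · rw [PL.uu1, Pi.smul_apply, smul_eq_mul]; field_simp
  rw [D.act_mul (m.XN (inv_mem h1)) (m.XN hy), D.act_inv, mul_smul, h2, inv_smul_smul]
  simp

/-- `y = b x`, `b ∈ B \ Q`; `moves`. -/
theorem three : ∃ x ∈ X, ∃ y ∈ X, x ∉ 𝐍[𝐙[B]] ∧ y ∉ 𝐍[𝐙[B]] ∧ x⁻¹ * y ∉ 𝐍[𝐙[B]] := by
  obtain ⟨x, hx, hn⟩ := h.exN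
  obtain ⟨A, hA, hc⟩ := h.off
  obtain ⟨b, hb, hb'⟩ := SetLike.not_le_iff_exists.1 hc
  refine ⟨x, hx, b * x, mul_mem (h.BX (hA.1 hb)) hx, hn, fun e =>
    hn ((Subgroup.mul_mem_cancel_left _ (normalizer_le_Z B (le_normalizer (hA.1 hb)))).1 e), fun e =>
      h.moves hx hn (hA.1 hb) hb' ?_⟩
  rwa [Z_cj, normalizer_cj, mem_cj, mul_assoc]

/-- `SLi_trans`. -/
theorem transW (hw : w ∈ W) (hw1 : w ∉ 𝐅[X, W]) (hw' : w' ∈ W) (hw1' : w' ∉ 𝐅[X, W]) :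
    ∃ x ∈ X, x * w * x⁻¹ * w'⁻¹ ∈ 𝐅[X, W] := by
  obtain ⟨F, _, _, _, D, m⟩ := h.md
  obtain ⟨s, hs, e⟩ := SLi_trans (mt (D.eq_zero hw).1 hw1) (mt (D.eq_zero hw').1 hw1')
  obtain ⟨x, hx, rfl⟩ := m.lift (PL.SLi_le hs)
  rw [D.act_ψ (m.XN hx) hw] at e
  exact ⟨x, hx, (D.ψ_eq_iff' (D.conj_mem (m.XN hx) hw) hw').1 e⟩

theorem cover (hw : w ∈ W) : ∃ x ∈ X, w ∈ cj(x, 𝐙[B]) := by
  by_cases c : w ∈ 𝐅[X, W]
  · exact ⟨1, one_mem _, h.CZx (one_mem _) c⟩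
  obtain ⟨z, hz, hz'⟩ := SetLike.not_le_iff_exists.1 h.not_YC
  obtain ⟨x, hx, e⟩ := h.transW (h.ZW (h.quad hz)) hz' hw c
  exact ⟨x, hx, inv_mem_iff.1 ((Subgroup.mul_mem_cancel_left _ (conj_mem_cj x (h.quad hz))).1
    (h.CZx hx e))⟩

/-- `transW` and `line`. -/
theorem tor (hz : z ∈ 𝐙[B]) (hz1 : z ∉ 𝐅[X, W]) (hz' : z' ∈ 𝐙[B]) (hz1' : z' ∉ 𝐅[X, W]) :
    ∃ x ∈ X, x ∈ 𝐍[𝐙[B]] ∧ x * z * x⁻¹ * z'⁻¹ ∈ 𝐅[X, W] := by
  obtain ⟨x, hx, e⟩ := h.transW (h.ZW hz) hz1 (h.ZW hz') hz1'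
  exact ⟨x, hx, h.line hx hz hz1 ((Subgroup.mul_mem_cancel_right _ (inv_mem hz')).1 (h.CZ e)), e⟩

/-- `exists_cartan`; lift to `x ∈ X` and take `g = x ^ 2 ^ k` of odd order (`exists_pow_coprime`);
`act x` (odd order) is a power of `act g`, so `act g` has no fixed vector. -/
theorem cartan (hq : 2 < 𝐪[B, W]) : ∃ g ∈ X, g ∈ 𝐍[𝐙[B]] ∧ Odd (orderOf g) ∧
    ∀ w ∈ W, ⁅g, w⁆ ∈ 𝐅[X, W] → w ∈ 𝐅[X, W] := by
  obtain ⟨F, _, _, _, D, m⟩ := h.md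
  obtain ⟨s, hs, h1, h2, h3, -⟩ := exists_cartan 2 (m.q ▸ hq)
  obtain ⟨x, hx, rfl⟩ := m.lift (PL.SLi_le hs)
  obtain ⟨k, hk⟩ := exists_pow_coprime (p := 2) x
  refine ⟨_, pow_mem hx _, pow_mem (m.nrm x hx h1) _, Nat.coprime_two_right.1 hk, fun w hw e => ?_⟩
  rw [← D.act_smul_eq_iff (m.XN (pow_mem hx _)) hw, D.act_pow (m.XN hx)] at e
  exact (D.eq_zero hw).1 (h3 _ (mem_of_pow_mem_of_coprime
    (K := MulAction.stabilizer _ (D.ψ w)) e (h2.pow_right k)))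

theorem faith (hx : x ∈ X) (e : ∀ w ∈ W, ⁅x, w⁆ ∈ 𝐅[X, W]) : x ∈ 𝐂[W] := by
  obtain ⟨F, _, _, _, D, m⟩ := h.md
  exact m.ker ⟨hx, D.mem_ker'.2 ⟨m.XN hx, e⟩⟩

/-- `act x` is linear and fixes `ψ z = c e₀ ≠ 0`, so `act x ∈ Ui = im B` (`mem_Ui_of_e0`),
`x = b k` with `k ∈ X ⊓ ker ≤ C(W)` (`exists_mul_ker`). -/
theorem stab (hx : x ∈ X) (hz : z ∈ 𝐙[B]) (hz' : z ∉ 𝐅[X, W]) (e : ⁅x, z⁆ ∈ 𝐅[X, W]) :
    x ∈ 𝐜[z] := by
  obtain ⟨F, _, _, _, D, m⟩ := h.md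
  have h1 : D.ψ z = D.ψ z 0 • (![1, 0] : Fin 2 → F) :=
    vec_ext (by simp) (by simpa using mem_ln.1 (m.preZ.ge hz).2)
  have h2 : D.ψ z 0 ≠ 0 := fun c => hz' ((D.eq_zero (h.ZW hz)).1 (by rw [h1, c, zero_smul]))
  rw [← D.act_smul_eq_iff (m.XN hx) (h.ZW hz), h1] at e
  obtain ⟨s, hs⟩ := m.actX hx
  rw [← hs, PL.slG_smul_smul, hs] at e
  obtain ⟨b, hb, -, k, hk, rfl⟩ := D.exists_mul_ker (m.XN hx)
    (m.imB.ge (PL.mem_Ui_of_e0 (m.actX hx) (smul_right_injective _ h2 e)))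
  exact mul_mem (le_c_iff.2 (Z_le_cent B hz) hb) (cent_le_c (h.ZW hz)
    (m.ker ⟨(Subgroup.mul_mem_cancel_left _ (h.BX hb)).1 hx, hk⟩))

/-- `g = a a'`, `ρ = g ^ 2 ^ k` of odd order.  `W₀ = {w ∈ W | ⁅ρ, w⁆ ∈ C}` is `g`-invariant and `g`
acts on `W₀ / C` as a 2-element; if `W₀ ≠ C` there is `w ∈ W₀ \ C` with `⁅g, w⁆ ∈ C` (fixed vector
of the 2-group generated by `act g` restricted; or induct on `k`: `(g - 1) ^ 2 ^ k = g ^ 2 ^ k - 1`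
in characteristic two).  Then `act a' v = act a⁻¹ v`, so `dl a' v = dl a⁻¹ v ∈ Z^x ⊓ Z = C`, and `ti`
for `h` and `h.cjX hx` gives `w ∈ Z ⊓ Z^x ≤ C`. -/
theorem np (hx : x ∈ X) (hn : x ∉ 𝐍[𝐙[B]]) (ha : a ∈ B) (ha1 : a ∉ 𝐂[W]) (ha' : a' ∈ cj(x, B))
    (ha1' : a' ∉ 𝐂[W]) : ∃ ρ ∈ zpowers (a * a'), Odd (orderOf ρ) ∧
      ∀ w ∈ W, ⁅ρ, w⁆ ∈ 𝐅[X, W] → w ∈ 𝐅[X, W] := by
  obtain ⟨F, _, _, _, D, m⟩ := h.md
  have h' := h.cjX hx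
  have hg := mul_mem (h.BX ha) (h'.BX ha')
  obtain ⟨k, hk⟩ := exists_pow_coprime (p := 2) (a * a')
  refine ⟨_, pow_mem (mem_zpowers _) _, Nat.coprime_two_right.1 hk, fun w hw e => ?_⟩
  rw [← D.act_smul_eq_iff (m.XN (pow_mem hg _)) hw, D.act_pow (m.XN hg)] at e
  by_contra c
  obtain ⟨u, u0, e'⟩ := fix_of_pow _ k (mt (D.eq_zero hw).1 c) e
  obtain ⟨v, hv, rfl⟩ := D.surj u
  have n1 := m.XN (h'.BX ha')
  have n2 := m.BN (inv_mem ha)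
  have h1 : D.ψ ⁅a', v⁆ = D.ψ ⁅a⁻¹, v⁆ := by
    rw [D.act_mul (m.BN ha) n1, mul_smul, smul_eq_iff_eq_inv_smul, ← D.act_inv] at e'
    rw [← D.dl_act n1 hv, ← D.dl_act n2 hv, dl_apply, dl_apply, e']
  have h2 := (D.ψ_eq_iff' (D.comm_mem_U n1 hv) (D.comm_mem_U n2 hv)).1 h1
  rw [commutatorElement_inv] at h2
  have h3 := h.quad (commutator_mem_commutator hv (inv_mem ha))
  have h4 := h'.quad (commutator_mem_commutator hv ha')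
  have h5 : ⁅v, a'⁆ ∈ 𝐅[X, W] := (h.two hx hn).1 (mem_inf.2 ⟨by
    rw [← commutatorElement_inv]
    exact inv_mem ((Subgroup.mul_mem_cancel_right _ h3).1 (h.CZ h2)), Z_cj x B ▸ h4⟩)
  have h6 : ⁅v, a⁻¹⁆ ∈ 𝐅[X, W] :=
    (Subgroup.mul_mem_cancel_left _ (by rw [← commutatorElement_inv]; exact inv_mem h5)).1 h2
  exact u0 (D.ψ_of_mem ((h.two hx hn).1 ⟨(h.ti hv (inv_mem ha) h6).resolve_left
    fun c => ha1 (inv_mem_iff.1 c), Z_cj x B ▸ (h'.ti hv ha' h5).resolve_left ha1'⟩))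

/-- `Y Y^x` is normalised by `B` (`⁅Y^x, B⁆ ≤ ⁅W, B⁆`) and by `B^x`, and both act trivially on
`W / Y Y^x`; `gen0`. -/
theorem V_eq (hx : x ∈ X) (hn : x ∉ 𝐍[𝐙[B]]) : ⁅W, X⁆ = ⁅W, B⁆ ⊔ cj(x, ⁅W, B⁆) := by
  have h' := h.cjX hx
  rw [← commutator_cj, cj_of_mem_normalizer (h.nW hx)]
  refine le_antisymm ((commutator_mono le_rfl (h.gen0 x hx hn)).trans ?_)
    (sup_le (commutator_mono le_rfl h.BX) (commutator_mono le_rfl h'.BX))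
  have k : ⁅W, B⁆ ⊔ ⁅W, cj(x, B)⁆ ≤ W := sup_le (h.quad.trans h.ZW) (h'.quad.trans h'.ZW)
  exact CP.commutator_sup_le
    (le_normalizer_iff_commutator_le_left.2 ((commutator_mono k le_rfl).trans le_sup_left))
    (le_normalizer_iff_commutator_le_left.2 ((commutator_mono k le_rfl).trans le_sup_right))
    le_sup_left le_sup_right

/-- `y y' ∈ Z`, `y' ∈ Y^x` gives `y' ∈ Z ⊓ Z^x ≤ C`, so `y' = x⁻¹ y' x ∈ Y`. -/
theorem VZ : ⁅W, X⁆ ⊓ 𝐙[B] = ⁅W, B⁆ := by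
  refine le_antisymm (fun v hv => ?_) (le_inf (commutator_mono le_rfl h.BX) h.quad)
  obtain ⟨x, hx, hn⟩ := h.exN
  have k := cj_mono x h.quad
  obtain ⟨y, hy, y', hy', rfl⟩ := (mem_sup_of_le_normalizer_right
    (h.nab (h.quad.trans h.ZW) (k.trans (h.ZxW hx)))).1 ((h.V_eq hx hn).le hv.1)
  have h1 := (h.two hx hn).1 ⟨(Subgroup.mul_mem_cancel_left _ (h.quad hy)).1 hv.2, k hy'⟩
  refine mul_mem hy ?_
  rwa [mem_cj, mul_assoc, ← h1.2 x hx, inv_mul_cancel_left] at hy'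

theorem VC : ⁅W, X⁆ ⊔ 𝐅[X, W] = W := by
  obtain ⟨x, hx, hn⟩ := h.exN
  refine le_antisymm (sup_le (le_normalizer_iff_commutator_le_left.1 h.nW) inf_le_left) ?_
  refine (h.two hx hn).2.ge.trans (sup_le ?_ ?_)
  · exact h.YC.ge.trans (sup_le_sup_right (commutator_mono le_rfl h.BX) _)
  · exact (Z_cj x B).ge.trans ((h.cjX hx).YC.ge.trans
      (sup_le_sup_right (commutator_mono le_rfl (h.cjX hx).BX) _))

/-- the Borel subgroup acts on `Z` as an abelian group -/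
theorem torc (hx : x ∈ X) (hx' : x ∈ 𝐍[𝐙[B]]) (hy : y ∈ X) (hy' : y ∈ 𝐍[𝐙[B]]) :
    ⁅x, y⁆ ∈ 𝐂[𝐙[B]] := by
  obtain ⟨F, _, _, _, D, m⟩ := h.md
  have k : ∀ x ∈ X, x ∈ 𝐍[𝐙[B]] → ∃ c : F, ∀ d : F,
      D.act x • d • (![1, 0] : Fin 2 → F) = (c * d) • (![1, 0] : Fin 2 → F) := fun x hx e => by
    have e1 := (m.nrm_iff hx).1 e
    obtain ⟨s, hs⟩ := m.actX hx
    have e2 : D.act x • (![1, 0] : Fin 2 → F) =
        (D.act x • (![1, 0] : Fin 2 → F)) 0 • (![1, 0] : Fin 2 → F) := vec_ext (by simp) (by simpa using e1)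
    refine ⟨(D.act x • (![1, 0] : Fin 2 → F)) 0, fun d => ?_⟩
    conv_lhs => rw [← hs, PL.slG_smul_smul, hs, e2]
    rw [smul_smul, mul_comm]
  have hc : ⁅x, y⁆ ∈ X := X.mul_mem (X.mul_mem (X.mul_mem hx hy) (X.inv_mem hx)) (X.inv_mem hy)
  intro z hz
  by_cases c : z ∈ 𝐅[X, W]
  · exact (c.2 _ hc).symm
  refine (mem_c.1 (h.stab hc hz c ?_)).symm
  have h1 : D.ψ z = D.ψ z 0 • (![1, 0] : Fin 2 → F) :=
    vec_ext (by simp) (by simpa using mem_ln.1 (m.preZ.ge hz).2)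
  obtain ⟨a, ha⟩ := k x hx hx'
  obtain ⟨b, hb⟩ := k y hy hy'
  obtain ⟨d, hd⟩ := k _ (inv_mem (mul_mem hy hx)) (inv_mem (mul_mem hy' hx'))
  have e : D.act (x * y) • (d * D.ψ z 0) • (![1, 0] : Fin 2 → F) =
      D.act (y * x) • (d * D.ψ z 0) • (![1, 0] : Fin 2 → F) := by
    rw [D.act_mul (m.XN hx) (m.XN hy), D.act_mul (m.XN hy) (m.XN hx), mul_smul (D.act x),
      mul_smul (D.act y), hb, ha, ha, hb, mul_left_comm]
  rw [← D.act_smul_eq_iff (m.XN hc) (h.ZW hz), h1, show ⁅x, y⁆ = (x * y) * (y * x)⁻¹ by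
    rw [commutatorElement_def]; group, D.act_mul (m.XN (mul_mem hx hy)) (m.XN (inv_mem (mul_mem hy hx))),
    mul_smul, hd, e, ← hd, D.act_inv, smul_inv_smul]

theorem V_le : ⁅W, X⁆ ≤ W := by
  exact le_normalizer_iff_commutator_le_left.1 h.nW

theorem nV : X ≤ 𝐍[⁅W, X⁆] := by
  exact le_normalizer_commutator h.nW le_normalizer

end Rq

end Cfsg.Agent.OD
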