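import Cfsg.Agent.OD.Defs

/-! # The group `N(I)`, 2-closed modulo `D` (S4008, captain helper80). -/

set_option autoImplicit false
set_option linter.unusedSectionVars false
set_option linter.unusedVariables false

namespace Cfsg.Agent.OD

open Cfsg.Agent.PLocal hiding centralizer_anti
open Subgroup Cfsg Cfsg.Agent.PLocal.Amb Cfsg.Agent.PLocal.TV
open Cfsg.Agent.PLocal.SL2Nat Cfsg.Agent.PLocal.Bk
open Cfsg.Agent.PLocal.CP (IsCharP MinOver ncl)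
open Cfsg.Agent.Baum Cfsg.Agent.Solv
open scoped commutatorElement MatrixGroups Cfsg.Agent.PLocal.CP

variable {G : Type*} [Group G] [Finite G] {I S D P T V Y B K : Subgroup G} {x v ρ g z r : G}

/-- If `T` is Sylow in `Y`, fixes `z`, and `r` is a central involution of `Y`, then no element of
`Y` maps `z` to `z r`. -/
theorem no_shift (hT : IsSyl 2 T Y) (h1 : T ≤ 𝐜[z]) (h2 : Y ≤ 𝐜[r]) (r2 : r * r = 1) (hg : g ∈ Y)
    (e : g * z * g⁻¹ = z * r) : r = 1 := by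
  have := Fact.mk Nat.prime_two
  have k : ∀ y ∈ Y, y ∈ 𝐜[z * r] ↔ y ∈ 𝐜[z] := fun y hy => by
    rw [c_comm, Subgroup.mul_mem_cancel_right _ (c_comm.1 (h2 hy)), c_comm]
  have hn : g ∈ 𝐍[Y ⊓ 𝐜[z]] := mem_normalizer_of_cj_le (cj_le_iff_forall.2 fun y hy => by
    have m := Y.mul_mem (Y.mul_mem hg hy.1) (Y.inv_mem hg)
    refine mem_inf.2 ⟨m, (k _ m).1 ?_⟩
    rw [← e, centralizer_singleton_conj]
    exact conj_mem_cj g hy.2)
  obtain ⟨n, hn', x, hx, rfl⟩ := (hT.mono (le_inf hT.le h1) inf_le_left).frattini hn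
  have xY : x ∈ Y := (Y.mul_mem_cancel_left hn'.1).1 hg
  have e1 : x * z * x⁻¹ = z * r := by
    have := mem_c'.1 (inv_mem ((k n hn'.1).2 hn'.2))
    rw [← this, ← e]; group
  have e2 : x ^ 2 ∈ 𝐜[z] := mem_c'.2 (by
    rw [sq, show x * x * z * (x * x)⁻¹ = x * (x * z * x⁻¹) * x⁻¹ by group, e1, ← conj_mul, e1,
      mem_c'.1 (h2 xY), mul_assoc, r2, mul_one])
  obtain ⟨j, m, hm, e3, -⟩ := exists_two_odd x
  have e4 : x ^ m ∈ T := hT.le_of_normalizes (isPGroup_zpowers ⟨j, e3⟩) (zpowers_le.2 (pow_mem xY m))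
    (zpowers_le.2 (pow_mem hx m)) (mem_zpowers _)
  have := mem_c'.1 (mem_of_pow_pow (h1 e4) e2 hm.coprime_two_right)
  rw [e1] at this
  simpa using this

namespace Cm

variable (c : Cm I S D)
include c

theorem cj (g : G) : Cm cj(g, I) cj(g, S) cj(g, D) where
  syl := cj_top g ▸ c.syl.cj g
  IZ := by rw [show 𝐙[cj(g, S)] = cj(g, 𝐙[S]) from Z_cj g S]; exact cj_mono g c.IZ
  odd := by rw [card_cj]; exact c.odd
  DC := by rw [centralizer_cj]; exact cj_mono g c.DC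
  nD := by rw [normalizer_cj, normalizer_cj]; exact cj_mono g c.nD
  nDS := by rw [← cj_sup, normalizer_cj, normalizer_cj]; exact cj_mono g c.nDS
  nS := by rw [normalizer_cj, normalizer_cj]; exact cj_mono g c.nS

theorem pg : IsPGroup 2 S := c.syl.pgrp

theorem IS : I ≤ S := c.IZ.trans (Z_le S)

theorem IC : I ≤ 𝐂[S] := c.IZ.trans (Z_le_cent S)

theorem SC : S ≤ 𝐂[I] := cent_symm c.IC

theorem SN : S ≤ 𝐍[I] := c.SC.trans (centralizer_le_normalizer' I)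

theorem DN : D ≤ 𝐍[I] := c.DC.trans (centralizer_le_normalizer' I)

theorem DSC : D ⊔ S ≤ 𝐂[I] := sup_le c.DC c.SC

theorem sq (hx : x ∈ I) : x * x = 1 := by
  rw [← _root_.sq]; exact (isEA_iff.1 (Z_ea S)).2 x (c.IZ hx)

theorem pgI : IsPGroup 2 I := c.pg.to_le c.IS

/-- `I ≤ P ≤ S` gives `I ≤ Ω₁Z(P)`. -/
theorem le_Z (h1 : I ≤ P) (h2 : P ≤ S) : I ≤ 𝐙[P] := fun _ hx =>
  mem_Z (h1 hx) (centralizer_anti h2 (c.IC hx)) (c.sq hx)

theorem le_ZB (h1 : I ≤ P) (h2 : P ≤ S) : I ≤ 𝐙[𝐁[2, P]] := fun _ hx =>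
  mem_ZB (h1 hx) (centralizer_anti h2 (c.IC hx)) (c.sq hx)

theorem two_le (hP : IsPGroup 2 P) (h : P ≤ 𝐍[I]) : P ≤ D ⊔ S := by
  have := Fact.mk Nat.prime_two
  obtain ⟨m, hm, e⟩ := (c.syl.mono c.SN le_top).exists_le_cj hP h
  exact e.trans (cj_le_of_mem_normalizer le_sup_right (c.nDS hm))

theorem odd_mem (hx : x ∈ D ⊔ S) (ho : Odd (orderOf x)) : x ∈ D :=
  pRes_sup_le c.pg (c.SN.trans c.nD) (mem_pRes hx ho.coprime_two_right)

theorem eq_one (hP : IsPGroup 2 P) (h1 : x ∈ P) (h2 : x ∈ D) : x = 1 :=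
  have := Fact.mk Nat.prime_two
  eq_one_of_isPGroup_of_coprime hP h1
    ((c.odd.of_dvd_nat (orderOf_dvd_natCard D h2)).coprime_two_right)

/-- an element of `D` normalising a 2-subgroup of `N(I)` centralises it -/
theorem df0 (hV : IsPGroup 2 V) (h : V ≤ 𝐍[I]) (h1 : ρ ∈ 𝐍[V]) (h2 : ρ ∈ D) : ρ ∈ 𝐂[V] :=
  fun v hv => (commutatorElement_eq_one_iff_mul_comm.1 (c.eq_one hV (x := ⁅ρ, v⁆)
    (mul_mem (conj_mem_of_mem_normalizer h1 hv) (inv_mem hv)) (by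
      rw [commutatorElement_def, mul_assoc, mul_assoc, ← mul_assoc v]
      exact mul_mem h2 (conj_mem_of_mem_normalizer (c.nD (h hv)) (inv_mem h2))))).symm

theorem df1 (hV : IsPGroup 2 V) (h : V ≤ 𝐍[I]) (h1 : ρ ∈ 𝐍[V]) (h2 : ρ ∈ D ⊔ S)
    (ho : Odd (orderOf ρ)) : ρ ∈ 𝐂[V] := c.df0 hV h h1 (c.odd_mem h2 ho)

/-- an odd element of `N(I)` inverted by an involution of `N(I)` lies in `D` -/
theorem df2 (h1 : ρ ∈ 𝐍[I]) (ho : Odd (orderOf ρ)) (hv : v ∈ 𝐍[I]) (v2 : v * v = 1)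
    (e : v * ρ * v⁻¹ = ρ⁻¹) : ρ ∈ D := by
  have k := c.two_le (isPGroup_zpowers ⟨1, by rwa [pow_one, _root_.sq]⟩) (zpowers_le.2 hv) (mem_zpowers v)
  have k2 := mul_mem (conj_mem_of_mem_normalizer (c.nDS h1) k) (inv_mem k)
  rw [show ρ * v * ρ⁻¹ * v⁻¹ = ρ * (v * ρ * v⁻¹)⁻¹ by group, e, inv_inv] at k2
  exact c.odd_mem (mem_of_pow_mem_of_coprime (n := 2) (by rwa [_root_.sq]) ho.coprime_two_right) ho

/-- the basic contradiction: `V`, `ρ`, `v` normalise `I`, `ρ` is odd, inverted by the involution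
`v` and normalises the 2-group `V`; then `ρ` centralises `V`. -/
theorem df (hV : IsPGroup 2 V) (h : V ≤ 𝐍[I]) (h0 : ρ ∈ 𝐍[V]) (h1 : ρ ∈ 𝐍[I])
    (ho : Odd (orderOf ρ)) (hv : v ∈ 𝐍[I]) (v2 : v * v = 1) (e : v * ρ * v⁻¹ = ρ⁻¹) : ρ ∈ 𝐂[V] :=
  c.df0 hV h h0 (c.df2 h1 ho hv v2 e)

/-- a 2-subgroup of `N(I)` is conjugate into `S` by an element of `D` centralising `T ⊓ S` -/
theorem exists_cj (hT : IsPGroup 2 T) (h : T ≤ 𝐍[I]) :
    ∃ d ∈ D, T ≤ cj(d, S) ∧ d ∈ 𝐂[T ⊓ S] := by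
  have := Fact.mk Nat.prime_two
  obtain ⟨m, hm, e⟩ := (c.syl.mono le_sup_right le_top).exists_le_cj hT (c.two_le hT h)
  obtain ⟨d, hd, s, hs, rfl⟩ := (mem_sup_of_le_normalizer_left (c.SN.trans c.nD)).1 hm
  rw [cj_mul, cj_of_mem hs] at e
  refine ⟨d, hd, e, fun y hy => ?_⟩
  have := c.eq_one c.pg (x := d⁻¹ * y * d * y⁻¹) (mul_mem (mem_cj.1 (e hy.1)) (inv_mem hy.2)) (by
    rw [mul_assoc, mul_assoc, ← mul_assoc y]
    exact mul_mem (inv_mem hd) (conj_mem_of_mem_normalizer (c.nD (c.SN hy.2)) hd))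
  rwa [mul_inv_eq_one, mul_assoc, inv_mul_eq_iff_eq_mul] at this

theorem cent_syl (h1 : I ≤ Y) (h2 : Y ≤ S) : IsSyl 2 (S ⊓ 𝐂[Y]) 𝐂[Y] := by
  have := Fact.mk Nat.prime_two
  obtain ⟨T, hT, l⟩ := exists_isSyl_ge (c.pg.to_le (inf_le_left : S ⊓ 𝐂[Y] ≤ S)) inf_le_right
  have p : IsPGroup 2 ↥(T ⊔ Y) := IsPGroup.to_sup_of_normal_right' hT.pgrp (c.pg.to_le h2)
    (hT.le.trans (centralizer_le_normalizer' Y))
  obtain ⟨d, hd, e1, e2⟩ := c.exists_cj p (sup_le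
    ((hT.le.trans (centralizer_anti h1)).trans (centralizer_le_normalizer' I)) (h2.trans c.SN))
  have dY : d ∈ 𝐂[Y] := centralizer_anti (le_inf le_sup_right h2) e2
  refine hT.of_card_ge (c.pg.to_le inf_le_left) inf_le_right ?_
  rw [← card_cj d⁻¹ T]
  exact card_le_card_of_le (le_inf (le_cj_iff.1 (le_sup_left.trans e1)) (cj_le_of_mem hT.le (inv_mem dY)))

/-- Frattini argument with an element of `D` -/
theorem fr (hB : IsSyl 2 B K) (hK : K ≤ 𝐍[I]) (hx : x ∈ 𝐍[K]) : ∃ d ∈ D ⊓ K, d⁻¹ * x ∈ 𝐍[B] := by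
  have := Fact.mk Nat.prime_two
  have l1 : B ≤ K ⊓ (D ⊔ S) := le_inf hB.le (c.two_le hB.pgrp (hB.le.trans hK))
  have s := hB.mono l1 inf_le_left
  have l2 : cj(x, B) ≤ K := cj_le_of_mem_normalizer hB.le hx
  obtain ⟨k, hk, e⟩ := s.exists_le_cj (isPGroup_cj x hB.pgrp)
    (le_inf l2 (c.two_le (isPGroup_cj x hB.pgrp) (l2.trans hK)))
  have l3 : 𝐎[2, K ⊓ (D ⊔ S)] ≤ D ⊓ K := le_inf (pRes_le_iff.2 fun g hg h =>
    c.odd_mem hg.2 (Nat.coprime_two_right.1 h)) ((pRes_le _ _).trans inf_le_left)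
  obtain ⟨d, hd, b, hb, rfl⟩ := (mem_sup_of_le_normalizer_left (l1.trans (le_normalizer_pRes 2 _))).1
    (s.pRes_sup.ge hk)
  rw [cj_mul, cj_of_mem hb, le_cj_iff, ← cj_mul] at e
  exact ⟨d, l3 hd, mem_normalizer_of_cj_le e⟩

end Cm

end Cfsg.Agent.OD
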