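import Cfsg.Agent.OD.ApiA
import Cfsg.Agent.OD.CmL

/-! # Rank one triples `Rq`, API part C (port of Baum/ApiC; S4008, captain helper80). -/

set_option autoImplicit false
set_option linter.unusedSectionVars false
set_option linter.unusedVariables false

namespace Cfsg.Agent.OD

open Cfsg.Agent.PLocal hiding centralizer_anti
open Subgroup Cfsg Cfsg.Agent.PLocal.Amb Cfsg.Agent.PLocal.TV
open Cfsg.Agent.PLocal.SL2Nat Cfsg.Agent.PLocal.Bk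
open Cfsg.Agent.PLocal.CP (IsCharP MinOver ncl)
open Cfsg.Agent.Baum
open scoped commutatorElement MatrixGroups Cfsg.Agent.PLocal.CP


variable {G : Type*} [Group G] [Finite G] {B X W T B' X' W' E J S : Subgroup G} {t d s n a : G}

namespace ApC

theorem dec (h : Rq B X W) {K : Subgroup G} (e : K ⊔ 𝐐[B, W] = B) {b : G} (hb : b ∈ B) :
    ∃ k ∈ K, ∀ w ∈ W, ⁅w, b⁆ = ⁅w, k⁆ := by
  have n : K ≤ 𝐍[𝐐[B, W]] := ((le_sup_left.trans e.le).trans h.BX).trans h.nQ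
  obtain ⟨k, hk, r, hr, rfl⟩ := (mem_sup_of_le_normalizer_right n).1 (e.ge hb)
  refine ⟨k, hk, fun w hw => ?_⟩
  rw [commutatorElement_def, commutatorElement_def, ← mul_assoc, mul_assoc _ r, ← hr.2 _ (inv_mem hw)]
  group

theorem cp1 (h : Rq B X T) (h2 : W' ≤ B) (nc : ¬ T ≤ 𝐂[W']) : T ⊓ 𝐂[W'] = 𝐙[B] := by
  refine le_antisymm (fun w hw => ?_) (le_inf h.ZW ((Z_le_cent B).trans (centralizer_anti h2)))
  obtain ⟨b, hb, n⟩ := SetLike.not_le_iff_exists.1 (mt le_centralizer_iff.1 nc)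
  refine (h.ti hw.1 (h2 hb) ?_).resolve_left n
  rw [commutatorElement_eq_one_iff_mul_comm.2 (hw.2 b hb).symm]
  exact one_mem _

end ApC

open ApC
open Cfsg.Agent.Baum.ApiC (sup_eq nor)

/-- Critical pairs.  `C_T(W') ≤ Z` by `ti` (some `b ∈ W' \ Q`), `Z` centralises `W' ≤ B`; so
`|T : C_T(W')| = q`, symmetrically `|W' : C_{W'}(T)| = q'`.  `W' / (W' ⊓ Q)` embeds in `B / Q`, so
`q' ≤ q`, symmetrically `q ≤ q'`, and `W' Q = B`.  `⁅T, B⁆ = ⁅T, W' Q⁆ = ⁅T, W'⁆` as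
`⁅w, w' r⁆ = ⁅w, w'⁆` for `r ∈ Q` (`w' r w r⁻¹ w'⁻¹`); symmetrically `⁅W', B'⁆ = ⁅W', T⁆`. -/
theorem Rq.cp (h : Rq B X T) (h' : Rq B' X' W') (h1 : T ≤ B') (h2 : W' ≤ B) (nc : ¬ T ≤ 𝐂[W']) :
    𝐪[B, T] = 𝐪[B', W'] ∧ W' ⊔ 𝐐[B, T] = B ∧ ⁅T, W'⁆ = ⁅T, B⁆ ∧ ⁅T, B⁆ = ⁅W', B'⁆ ∧
      T ⊓ 𝐂[W'] = 𝐙[B] := by
  have ce {B X W K : Subgroup G} (h : Rq B X W) (e : K ⊔ 𝐐[B, W] = B) : ⁅W, K⁆ = ⁅W, B⁆ :=
    le_antisymm (commutator_mono le_rfl (le_sup_left.trans e.le)) (commutator_le.2 fun w hw b hb => by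
      obtain ⟨k, hk, r⟩ := dec h e hb
      exact r w hw ▸ commutator_mem_commutator hw hk)
  have e1 := cp1 h h2 nc
  have e2 := cp1 h' h1 (mt le_centralizer_iff.1 nc)
  have i1 : (𝐂[W']).relIndex T = 𝐪[B, T] := by rw [← inf_relIndex_left, e1, h.idxZ]
  have i2 : (𝐂[T]).relIndex W' = 𝐪[B', W'] := by rw [← inf_relIndex_left, e2, h'.idxZ]
  have l1 : (𝐂[W']).relIndex T ≤ 𝐪[B', W'] := relIndex_le_of_le_right h1 (relIndex_pos _ _).ne'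
  have l2 : (𝐂[T]).relIndex W' ≤ 𝐪[B, T] := relIndex_le_of_le_right h2 (relIndex_pos _ _).ne'
  have s1 := sup_eq h2 ((h2.trans h.BX).trans h.nQ) (by omega)
  have s2 := sup_eq h1 ((h1.trans h'.BX).trans h'.nQ) (by omega)
  exact ⟨by omega, s1, ce h s1, by rw [← ce h s1, ← ce h' s2, commutator_comm], e1⟩

/-- `⁅W, K⁆ = Y` whenever `K Q = B`. -/
theorem Rq.comm_eq (h : Rq B X W) {K : Subgroup G} (e : K ⊔ 𝐐[B, W] = B) : ⁅W, K⁆ = ⁅W, B⁆ :=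
  le_antisymm (commutator_mono le_rfl (le_sup_left.trans e.le)) (commutator_le.2 fun w hw b hb => by
    obtain ⟨k, hk, r⟩ := dec h e hb
    exact r w hw ▸ commutator_mem_commutator hw hk)

/-- `C_W(K) = Z` whenever `K Q = B`. -/
theorem Rq.cent_eq (h : Rq B X W) {K : Subgroup G} (e : K ⊔ 𝐐[B, W] = B) : W ⊓ 𝐂[K] = 𝐙[B] := by
  rw [h.Z_eq]
  refine le_antisymm (fun w hw => ⟨hw.1, fun b hb => ?_⟩)
    (inf_le_inf_left _ (centralizer_anti (le_sup_left.trans e.le)))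
  obtain ⟨k, hk, r⟩ := dec h e hb
  exact (commutatorElement_eq_one_iff_mul_comm.1 ((r w hw.1).trans
    (commutatorElement_eq_one_iff_mul_comm.2 (hw.2 k hk).symm))).symm

/-- Non-commuting `T`, `T^a`: `cp` for `h` and `h.cj a`.  Commuting: `E₀ = E ⊓ C(T)` is centralised
by `T`, so by `T^a`; `E₀ T ∈ 𝒜(B)` (`full`) is centralised by `T^a ≤ B`, so `T^a ≤ E₀ T`.
`Y = ⁅T, E⁆` (`full`, `comm_eq`), `Y^a = ⁅T^a, E⁆ ≤ ⁅E₀ T, E⁆ = Y`; equality by order. -/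
theorem Rq.pat (h : Rq B X T) (hE : E ∈ maxEA 2 B) (hn : ¬ E ≤ 𝐂[T]) (h1 : a ∈ 𝐍[E])
    (h2 : a ∈ 𝐍[E ⊓ 𝐂[T]]) (h3 : cj(a, T) ≤ B) (h4 : T ≤ cj(a, B)) : a ∈ 𝐍[⁅T, B⁆] := by
  by_cases c : T ≤ 𝐂[cj(a, T)]
  swap
  · rw [← cj_eq_iff, ← commutator_cj]
    exact (h.cp (h.cj a) h4 h3 c).2.2.2.1.symm
  obtain ⟨f1, -, f3⟩ := h.full hE hn
  have c1 : cj(a, T) ≤ 𝐂[E ⊓ 𝐂[T]] := by
    rw [← cj_of_mem_normalizer h2, centralizer_cj]
    exact cj_mono a (le_centralizer_iff.1 inf_le_right)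
  have c2 := le_of_mem_maxEA_of_centralizes f3 h3 (fun v hv => (sq v).trans ((h.cj a).sqW hv))
    (by rw [Amb.centralizer_sup]; exact le_inf c1 (le_centralizer_iff.1 c))
  rw [← h.comm_eq f1]
  refine mem_normalizer_of_cj_le ?_
  rw [← commutator_cj, cj_of_mem_normalizer h1]
  refine commutator_le.2 fun v hv e he => ?_
  obtain ⟨w, hw, u, hu, rfl⟩ := (mem_sup_of_le_normalizer_left
    (inf_le_right.trans (centralizer_le_normalizer' T))).1 ((sup_comm _ T).le (c2 hv))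
  rw [show ⁅w * u, e⁆ = ⁅w, e⁆ by
    rw [commutatorElement_def, commutatorElement_def, mul_assoc w u, isEA_comm hE.2.1 hu.1 he]; group]
  exact commutator_mem_commutator hw he

/-- `X` is not a 2-group: `exN`, `np` with `a ∈ B \ Q`, `a' = x a x⁻¹`, gives `ρ = 1`, so
`W ≤ C`, against `not_YC`. -/
theorem Rq.not_pg (h : Rq B X W) : ¬ IsPGroup 2 X := fun hp => by
  have := Fact.mk Nat.prime_two
  obtain ⟨x, hx, hn⟩ := h.exN
  obtain ⟨A, hA, n⟩ := h.off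
  obtain ⟨a, ha, n⟩ := SetLike.not_le_iff_exists.1 n
  obtain ⟨ρ, h1, h2, h3⟩ := h.np hx hn (hA.1 ha) n (conj_mem_cj x (hA.1 ha)) fun m => n (by
    simpa [mul_assoc] using inv_conj_mem_of_mem_normalizer (normalizer_le_normalizer_centralizer W (h.nW hx)) m)
  have e := eq_one_of_isPGroup_of_coprime hp (zpowers_le.2 (mul_mem (h.BX (hA.1 ha))
    (mul_mem (mul_mem hx (h.BX (hA.1 ha))) (inv_mem hx))) h1) h2.coprime_two_right
  exact h.not_YC ((h.quad.trans h.ZW).trans fun w hw => h3 w hw (by rw [e, commutatorElement_one_left]; exact one_mem _))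

/-- some element of odd order acts without fixed points on `W / C` -/
theorem Rq.exRho (h : Rq B X W) : ∃ ρ ∈ X, Odd (orderOf ρ) ∧
    ∀ w ∈ W, ⁅ρ, w⁆ ∈ 𝐅[X, W] → w ∈ 𝐅[X, W] := by
  obtain ⟨x, hx, hn⟩ := h.exN
  obtain ⟨A, hA, n⟩ := h.off
  obtain ⟨a, ha, n⟩ := SetLike.not_le_iff_exists.1 n
  obtain ⟨ρ, h1, h2, h3⟩ := h.np hx hn (hA.1 ha) n (conj_mem_cj x (hA.1 ha)) fun m => n (by
    simpa [mul_assoc] using inv_conj_mem_of_mem_normalizer (normalizer_le_normalizer_centralizer W (h.nW hx)) m)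
  exact ⟨ρ, zpowers_le.2 (mul_mem (h.BX (hA.1 ha))
    (mul_mem (mul_mem hx (h.BX (hA.1 ha))) (inv_mem hx))) h1, h2, h3⟩

variable {I D : Subgroup G}

/-- a rank one group does not normalise `I` -/
theorem Rq.notN (h : Rq B X W) (c : Cm I S D) : ¬ X ≤ 𝐍[I] := fun e => by
  obtain ⟨x, hx, hn⟩ := h.exN
  obtain ⟨ρ, h1, h2, h3⟩ := h.exRho
  have k := c.df1 (h.pg.to_le h.WB) ((h.WB.trans h.BX).trans e) (h.nW h1)
    ((h.gen0 x hx hn).trans (sup_le (c.two_le h.pg (h.BX.trans e)) (c.two_le (isPGroup_cj x h.pg)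
      ((cj_le_of_mem h.BX hx).trans e))) h1) h2
  exact h.not_YC ((h.quad.trans h.ZW).trans fun w hw => h3 w hw (by
    rw [commutatorElement_eq_one_iff_mul_comm.2 (k w hw).symm]; exact one_mem _))

theorem Rq.notC (h : Rq B X W) (c : Cm I S D) : ¬ I ≤ 𝐂[X] := fun e =>
  h.notN c ((cent_symm e).trans (centralizer_le_normalizer' I))

theorem Rq.fr (h : Rq B X W) (c : Cm I S D) (hI : I ≤ 𝐙[B]) : Fr B X W := fun x hx hn => by
  have l : B ≤ X ⊓ 𝐂[𝐙[B]] := le_inf h.BX (cent_symm (Z_le_cent B))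
  have l2 : X ⊓ 𝐂[𝐙[B]] ≤ 𝐍[I] :=
    (inf_le_right.trans (centralizer_anti hI)).trans (centralizer_le_normalizer' I)
  obtain ⟨d, hd, e⟩ := c.fr (h.syl.mono l inf_le_left) l2 (le_normalizer_inf (L := X ⊓ 𝐍[𝐙[B]])
    (inf_le_left.trans le_normalizer) (le_normalizer_centralizer inf_le_right) ⟨hx, hn⟩)
  exact ⟨d, ⟨hd.2.1, c.df0 (h.pg.to_le inf_le_left) ((inf_le_left.trans l).trans l2) (h.nQ hd.2.1) hd.1⟩, e⟩

/-- the Borel subgroup lies in `N(I)` when `N(B)` does -/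
theorem Rq.borel (h : Rq B X W) (c : Cm I S D) (hI : I ≤ 𝐙[B]) (hN : 𝐍[B] ≤ 𝐍[I]) {x : G}
    (hx : x ∈ X) (hn : x ∈ 𝐍[𝐙[B]]) : x ∈ 𝐍[I] := by
  obtain ⟨k, hk, e⟩ := h.fr c hI x hx hn
  exact (Subgroup.mul_mem_cancel_left _ (inv_mem (centralizer_le_normalizer' I (centralizer_anti
    ((hI.trans h.ZW).trans h.WQ) hk.2)))).1 (hN e)

end Cfsg.Agent.OD
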