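import Cfsg.Agent.OD.Star
import Cfsg.Agent.OD.Alpha

/-! # There are no twin blocks (S4008, captain helper80).
API: Baum/Blk, Baum/B3 (`b3T`, `Tw.le_T`, `b3T_le`, `b3T_cj`, `b3_sup`, `b3_dec`), OD/Star. -/

set_option autoImplicit false
set_option linter.unusedSectionVars false
set_option linter.unusedVariables false

namespace Cfsg.Agent.OD

open Cfsg.Agent.PLocal hiding centralizer_anti
open Subgroup Cfsg Cfsg.Agent.PLocal.Amb Cfsg.Agent.PLocal.TV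
open Cfsg.Agent.PLocal.SL2Nat Cfsg.Agent.PLocal.Bk
open Cfsg.Agent.PLocal.CP (IsCharP MinOver ncl)
open Cfsg.Agent.Baum Cfsg.Agent.Solv
open scoped commutatorElement MatrixGroups Cfsg.Agent.PLocal.CP

variable {G : Type*} [Group G] [Finite G] {I S D V V' U U' : Subgroup G} {ρ y z : G}

theorem b3_cml {u a x : G} (h1 : u * a = a * u) (h2 : u * x = x * u) : ⁅u * a, x⁆ = ⁅a, x⁆ := by
  have c : Commute u (a * x * a⁻¹) := (Commute.mul_right h1 h2).mul_right (Commute.inv_right h1)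
  rw [commutatorElement_def, commutatorElement_def,
    show u * a * x * (u * a)⁻¹ = u * (a * x * a⁻¹) * u⁻¹ by group, c.eq, mul_inv_cancel_right]

theorem b3_cmr {u a x : G} (h1 : u * a = a * u) (h2 : u * x = x * u) : ⁅x, u * a⁆ = ⁅x, a⁆ := by
  rw [← commutatorElement_inv, b3_cml h1 h2, commutatorElement_inv]

theorem b3_sq {a b : G} (a2 : a * a = 1) (b2 : b * b = 1) (c : a * b = b * a) :
    a * b * (a * b) = 1 := by
  rw [mul_assoc, ← mul_assoc b, ← c, mul_assoc a b, b2, mul_one, a2]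

theorem b3_cj2 {a : G} (g : G) (a2 : a * a = 1) : g * a * g⁻¹ * (g * a * g⁻¹) = 1 := by
  rw [conj_mul, a2]; group

theorem b3_cm {a : G} (g : G) (a2 : a * a = 1) : ⁅a, g⁆ = a * (g * a * g⁻¹) := by
  rw [commutatorElement_def, inv_of_sq a2]; group

/-- `y = ⁅a', a⁆` (`Tw.comm_eq`), `a, a' ∈ Q = 𝐐[S, V]`; `a = u r`, `a' = u' r'` with `u, u' ∈ V`
central in `Q` and `r, r' ∈ C(ρ)` (`b3_dec`), so `y = ⁅r', r⁆`. -/
theorem tw_zrho (h : Tw S V V' z) (r : Rho S V ρ) (h' : Tw S U U' y) (h1 : U ≤ 𝐂[V])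
    (h2 : U' ≤ 𝐂[V]) : y ∈ 𝐜[ρ] := by
  obtain ⟨a, ha, a1⟩ := h'.ex
  obtain ⟨b, hb, b1⟩ := h'.symm.ex
  obtain ⟨u, hu, e1⟩ := b3_dec r h.b1 (mem_inf.2 ⟨h'.b1.le ha, h1 ha⟩)
  obtain ⟨w, hw, e2⟩ := b3_dec r h.b1 (mem_inf.2 ⟨h'.b2.le hb, h2 hb⟩)
  have k1 := inv_mem e1
  have k2 := inv_mem e2
  rw [mul_inv_rev, inv_inv] at k1 k2
  have m1 := inv_mem hu
  have m2 := inv_mem hw
  have e : ⁅w⁻¹ * b, u⁻¹ * a⁆ = y := by
    rw [b3_cml (h2 hb _ m2) (mul_mem (st_com h.b1.sq m1) (h1 ha) _ m2),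
      b3_cmr (h1 ha _ m1) (h2 hb _ m1), h'.comm_eq ha a1 hb b1]
  rw [← e, commutatorElement_def]
  exact mul_mem (mul_mem (mul_mem k2 k1) (inv_mem k2)) (inv_mem k1)

/-- `g` moves the twin `V`, `V'` into the centraliser -/
structure Mv (V V' : Subgroup G) (g : G) : Prop where
  h1 : cj(g, V) ≤ 𝐂[V]
  h2 : cj(g, V) ≤ 𝐂[V']
  h3 : cj(g, V') ≤ 𝐂[V]

theorem Mv.zp {g w : G} (m : Mv V V' g) (h : Tw S V V' z) (hw : w ∈ V) (e : w ∈ cj(g, V)) :
    w ∈ zpowers z := by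
  obtain ⟨v', hv', v1⟩ := h.symm.ex
  exact h.mem_zp hw hv' v1 (mem_c.2 (m.h2 e v' hv'))

theorem Mv.cm {g v w : G} (m : Mv V V' g) (hv : v ∈ V) (hw : w ∈ V) :
    v * (g * w * g⁻¹) = g * w * g⁻¹ * v := m.h1 (conj_mem_cj g hw) v hv

theorem Cm.ka (c : Cm I S D) (h : Tw S V V' z) (h' : Tw S U U' y) {u : G} (hu : u ∈ U)
    (u1 : u ∉ 𝐜[z]) (m : Mv V V' u) : y ∉ 𝐜[z] := fun hy => by
  have st : ∀ v ∈ V, v ∈ 𝐜[y] → u ∉ 𝐜[v] → v * (u * v * u⁻¹) = y := fun v hv e1 e2 => by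
    have v2 := h.b1.sq v hv
    rw [← b3_cm u v2]
    refine c.star' h' hu (h.b1.le hv) v2 e1 (fun k => e2 (c_comm.1 k)) ?_
    rw [b3_cm u v2]
    exact b3_sq v2 (b3_cj2 u v2) (m.cm hv hv)
  have e1 := st z h.zV (c_comm.1 hy) u1
  obtain ⟨v, hv, v1⟩ := h.ex
  have yC : y ∈ 𝐂[V] := e1 ▸ mul_mem (st_com h.b1.sq h.zV) (m.h1 (conj_mem_cj u h.zV))
  have e2 := st v hv (le_c_iff.2 yC hv) fun k =>
    v1 (m.zp h hv (by have := conj_mem_cj u hv; rwa [mem_c'.1 k] at this))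
  have e3 : v * z = u * (v * z) * u⁻¹ := by
    calc v * z = v * (z * (u * z * u⁻¹)) * (u * z * u⁻¹) := by
          rw [mul_assoc v, mul_assoc z, b3_cj2 u h.z2, mul_one]
      _ = v * v * (u * v * u⁻¹) * (u * z * u⁻¹) := by rw [e1, ← e2]; group
      _ = _ := by rw [h.b1.sq v hv]; group
  exact v1 ((mul_mem_cancel_right (mem_zpowers z)).1 (m.zp h (mul_mem hv h.zV)
    (by rw [e3]; exact conj_mem_cj u (mul_mem hv h.zV))))

theorem Cm.kb (c : Cm I S D) (h : Tw S V V' z) (h' : Tw S U U' y)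
    (M : ∀ g ∈ U, g ∉ 𝐜[z] → Mv V V' g) (hy : y ∉ 𝐜[z]) :
    ∃ u ∈ U, u ∉ zpowers y ∧ u ∈ 𝐜[z] := by
  by_contra n
  push Not at n
  obtain ⟨u, hu, u1⟩ := h'.ex
  have hu' := mul_mem hu h'.zV
  have m1 := M y h'.zV hy
  have m2 := M u hu (n u hu u1)
  have m3 := M _ hu' (n _ hu' fun e => u1 ((mul_mem_cancel_right (mem_zpowers y)).1 e))
  have uy : u * y = y * u := comm_of_sq h'.b1.sq hu h'.zV
  have yi := inv_of_sq h'.z2
  have z2 := h.z2
  have c1 : Commute z (y * z * y⁻¹) := m1.cm h.zV h.zV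
  have c2 : Commute z (u * z * u⁻¹) := m2.cm h.zV h.zV
  have c3 : Commute z (u * y * z * (u * y)⁻¹) := m3.cm h.zV h.zV
  have c4 : Commute (y * z * y⁻¹) (u * z * u⁻¹) := by
    have := c3.conj y
    rwa [show y * (u * y * z * (u * y)⁻¹) * y⁻¹ = y * (u * y) * z * (y * (u * y))⁻¹ by group, uy,
      ← mul_assoc y y, h'.z2, one_mul] at this
  have c5 : Commute (y * z * y⁻¹) (u * y * z * (u * y)⁻¹) := by
    have := c2.conj y
    rwa [show y * (u * z * u⁻¹) * y⁻¹ = y * u * z * (y * u)⁻¹ by group, ← uy] at this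
  have s2 := b3_sq z2 (b3_cj2 y z2) c1
  have e1 : u * (z * (y * z * y⁻¹)) * u⁻¹ = u * z * u⁻¹ * (u * y * z * (u * y)⁻¹) := by group
  have yS := h'.b1.le h'.zV
  have zS := h.b1.le h.zV
  by_cases k : z * (y * z * y⁻¹) ∈ 𝐜[u]
  · obtain ⟨ρ, r⟩ := h.b1.rho
    have f : ∀ g ∈ U, Mv V V' g → g * z * g⁻¹ ∈ 𝐜[ρ] := fun g hg m =>
      tw_zrho h r (h.cjS (le_normalizer (h'.b1.le hg))) m.h1 m.h3
    rw [mem_c'.1 (c_comm.1 k)] at e1
    exact h.z1 (r.fpf h.b1 h.zV (c_comm.1 ((mul_mem_cancel_right (f y h'.zV m1)).1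
      (e1 ▸ mul_mem (f u hu m2) (f _ hu' m3)))))
  · have e2 := c.star' h' hu (mul_mem zS (mul_mem (mul_mem yS zS) (inv_mem yS))) s2
      (mem_c.2 (by
        rw [show y * (z * (y * z * y⁻¹)) = y * z * y⁻¹ * (y * y * z) * y⁻¹ by group, h'.z2, one_mul,
          ← c1.eq, yi])) k (by
        rw [b3_cm u s2]
        refine b3_sq s2 (b3_cj2 u s2) ?_
        rw [e1]
        exact ((c2.mul_right c3).mul_left (c4.mul_right c5)).eq)
    rw [b3_cm u s2, e1] at e2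
    exact hy (e2 ▸ mem_c.2 (((Commute.refl z).mul_right c1).mul_right (c2.mul_right c3)).symm.eq)

theorem Cm.kc (c : Cm I S D) (h : Tw S V V' z) (h' : Tw S U U' y)
    (M : ∀ g ∈ b3T S y, g ∉ 𝐜[z] → Mv V V' g) : U ≤ 𝐜[z] := fun u hu => by_contra fun u1 => by
  have hy := c.ka h h' hu u1 (M u (h'.le_T hu) u1)
  obtain ⟨a, ha, a1, a2⟩ := c.kb h h' (fun g hg => M g (h'.le_T hg)) hy
  obtain ⟨b, hb, b1, b2⟩ := c.kb h h'.symm (fun g hg => M g (h'.symm.le_T hg)) hy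
  refine hy ?_
  rw [← h'.comm_eq ha a1 hb b1, commutatorElement_def]
  exact mul_mem (mul_mem (mul_mem b2 a2) (inv_mem b2)) (inv_mem a2)

/-- Copy the frame of `Baum.Tw.comm` (Baum/B3: induction on `|b3T S z ⊔ b3T S y|`, last step
`star` twice + `zp_uniq`).  Only the step `K` (`U ≤ C(z)`) changes.  `Γ = T_z ⊔ T_y`.
(M) for `g ∈ Γ` moving `z`: `T_{z^g} ≤ C(T_z)` (as in Baum: `b3_sup` and the induction hypothesis);
so `V^g`, `V'^g` (`h.cjS`, `le_T`) centralise `V`, `V'`, and `z^g` commutes with `z`.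
Suppose some element of `U` moves `z`; then some `u ∈ U \ ⟨y⟩` does (as in Baum).
(a) `y` moves `z`.  Otherwise `star'` (twin `U`, `s = z`, `⁅z, u⁆ = z z^u`) gives `y = z z^u`, so
`V ≤ C(y)`.  Take `v ∈ V \ ⟨z⟩`; `u` moves `v` (else `v = v^u ∈ V^u ≤ C(V')`, against
`Tw.mem_zp`), `star'` with `s = v`: `y = v v^u`.  Hence `v z = (v z)^u ∈ V^u ≤ C(V')`, so
`v z ∈ ⟨z⟩`. ↯
(b) for every twin `Tw S U₁ U₁' y` some `u₀ ∈ U₁ \ ⟨y⟩` fixes `z`.  Otherwise `u` and `u y` move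
`z` (`u ∈ U₁ \ ⟨y⟩`), and so does `y`; `z, z^y, z^u, z^{u y}` commute pairwise ((M), conjugate by
`y`).  `s = z z^y ∈ S ⊓ C(y)` is an involution or 1.  If `u` moves `s`: `star'` gives
`y = s s^u ∈ C(z)`, against (a).  Otherwise `z = z^u z^{u y} z^y ∈ C(ρ)` by `tw_zrho` (three
times, `ρ` from `h.b1.rho`), against `Rho.fpf`.
(c) `y = ⁅u₀', u₀⁆ ∈ C(z)` (`Tw.comm_eq`, (b) for `h'` and `h'.symm`), against (a). -/
theorem Cm.comm (c : Cm I S D) (h : Tw S V V' z) (h' : Tw S U U' y) (ne : z ≠ y) : U ≤ 𝐂[V] := by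
  suffices H : ∀ n, ∀ z y, Nat.card (b3T S z ⊔ b3T S y : Subgroup G) = n → z ≠ y →
      b3T S y ≤ 𝐂[b3T S z] from h'.le_T.trans ((H _ z y rfl ne).trans (centralizer_anti h.le_T))
  clear h h' ne
  intro n
  induction n using Nat.strong_induction_on with
  | _ n ih =>
  have K : ∀ z y V V' U U', Nat.card (b3T S z ⊔ b3T S y : Subgroup G) = n → Tw S V V' z →
      Tw S U U' y → U ≤ 𝐜[z] := fun z y V V' U U' e h h' => by
    refine c.kc h h' fun u hu r => ?_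
    have uS := (mem_inf.1 (b3T_le S y hu)).1
    have uT : u ∈ b3T S z ⊔ b3T S y := mem_sup_right hu
    have l1 := sup_le_sup_left (b3T_cj (z := z) (le_normalizer uS)) (b3T S z)
    have l2 := l1.trans (sup_le le_sup_left (cj_le_of_mem le_sup_left uT))
    have lt : Nat.card (b3T S z ⊔ b3T S (u * z * u⁻¹) : Subgroup G) < n := by
      rw [← e]
      exact lt_of_not_ge fun k => r (mem_inf.1 (b3T_le S z ((b3_sup (c.pg.to_le (sup_le
        ((b3T_le S z).trans inf_le_left) ((b3T_le S y).trans inf_le_left))) le_sup_left uT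
          ((eq_of_le_of_card_ge l2 k).ge.trans l1)).ge uT))).2
    have := ih _ lt z _ rfl fun e => r (mem_c.2 (mul_inv_eq_iff_eq_mul.1 e.symm))
    have h2 := h.cjS (le_normalizer uS)
    exact ⟨h2.le_T.trans (this.trans (centralizer_anti h.le_T)),
      h2.le_T.trans (this.trans (centralizer_anti h.symm.le_T)),
      h2.symm.le_T.trans (this.trans (centralizer_anti h.le_T))⟩
  refine fun z y e ne => iSup_le fun U => iSup_le fun U' => iSup_le fun h' => le_centralizer_iff.1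
    (iSup_le fun V => iSup_le fun V' => iSup_le fun h v hv u hu => by_contra fun r => ne ?_)
  have a := c.star h hv (h'.b1.le hu) (h'.b1.sq u hu) (K z y V V' U U' e h h' hu)
    fun c => r (mem_c.1 c)
  have b := c.star h' hu (h.b1.le hv) (h.b1.sq v hv)
    (K y z U U' V V' (sup_comm (b3T S z) _ ▸ e) h' h hv) fun c => r (mem_c.1 c).symm
  rw [← zpowers_inv, mul_inv_rev, inv_eq_of_mul_eq_one_right (h'.b1.sq u hu),
    inv_eq_of_mul_eq_one_right (h.b1.sq v hv)] at b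
  exact zp_uniq a b h.z2 h.z1 h'.z2 h'.z1

theorem b3_cent (f : G ≃* G) (V : Subgroup G) :
    𝐂[V.map f.toMonoidHom] = (𝐂[V]).map f.toMonoidHom := by
  ext x
  obtain ⟨x, rfl⟩ := f.surjective x
  refine Iff.trans ?_ (mem_map_iff_mem (f := f.toMonoidHom) f.injective).symm
  refine ⟨fun e v hv => f.injective ?_, ?_⟩
  · rw [map_mul, map_mul]; exact e _ (mem_map_of_mem f.toMonoidHom hv)
  · rintro e _ ⟨v, hv, rfl⟩
    change f v * f x = f x * f v
    rw [← map_mul, ← map_mul, e v hv]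

theorem b3_norm (f : G ≃* G) (V : Subgroup G) :
    𝐍[V.map f.toMonoidHom] = (𝐍[V]).map f.toMonoidHom := (map_equiv_normalizer_eq V f).symm

theorem b3_inf (f : G ≃* G) (V W : Subgroup G) :
    V.map f.toMonoidHom ⊓ W.map f.toMonoidHom = (V ⊓ W).map f.toMonoidHom :=
  (map_inf_eq V W _ f.injective).symm

theorem blo_map (h : Blo S V) (f : G ≃* G) : Blo (S.map f.toMonoidHom) (V.map f.toMonoidHom) := by
  obtain ⟨ρ, r⟩ := h.rho
  refine ⟨map_mono h.le, ?_, by rw [Subgroup.card_map_of_injective f.injective, h.card],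
    ⟨f ρ, by rw [MulEquiv.orderOf_eq]; exact r.odd, ?_, ?_, ?_, ?_⟩, ?_⟩
  · rintro _ ⟨v, hv, rfl⟩
    rw [← map_mul, h.sq v hv, map_one]
  · rw [b3_norm]; exact mem_map_of_mem f.toMonoidHom r.nV
  · rw [b3_cent, b3_inf, b3_norm]; exact mem_map_of_mem f.toMonoidHom r.nQ
  · rw [b3_cent, b3_inf]
    rintro _ ⟨x, hx, rfl⟩
    exact ⟨_, r.comm x hx, map_commutatorElement f.toMonoidHom ρ x⟩
  · rw [b3_cent]
    exact fun e => r.nc ((mem_map_iff_mem (f := f.toMonoidHom) f.injective).1 e)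
  · rw [b3_cent, b3_norm, b3_inf, map_le_map_iff_of_injective f.injective]; exact h.nc

/-- transport of twins along an automorphism (copy `Rho.cj`, `Blo.cj`, `Tw.cj` with
`mem_normalizer_map_iff`, `mem_centralizer_map`, `map_Zs`; `MulEquiv.orderOf_eq`). -/
theorem tw_map (h : Tw S V V' z) (f : G ≃* G) :
    Tw (S.map f.toMonoidHom) (V.map f.toMonoidHom) (V'.map f.toMonoidHom) (f z) := by
  refine ⟨blo_map h.b1 f, blo_map h.b2 f, ?_, ?_, fun e => h.z1 (f.map_eq_one_iff.1 e),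
    mem_map_of_mem f.toMonoidHom h.zV, mem_map_of_mem f.toMonoidHom h.zV'⟩
  · rw [b3_norm, b3_norm, b3_inf, b3_inf, h.eq]
  · rw [b3_cent, map_le_map_iff_of_injective f.injective]; exact h.nc

/-- For `a ≠ 1`: `a • z ≠ z` (`Od.nc` with `IsConj.refl`), `tw_map` (`S` is invariant,
`Inv.map_eq`) and `comm` (for `h` and `h.symm`) give `a • V ≤ C(V) ⊓ C(V')`.  Let `v ∈ V \ ⟨z⟩`.
`Od.mem_of_orbit` with `K = C(V')` gives `v ∈ C(V')`, against `Tw.mem_zp`. -/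
theorem Al.noTw {A : Type*} [Group A] [Finite A] [MulDistribMulAction A G] (c : Al A I S D)
    (h : Tw S V V' z) : False := by
  obtain ⟨v, hv, v1⟩ := h.ex
  obtain ⟨v', hv', v1'⟩ := h.symm.ex
  refine v1 (h.mem_zp hv hv' v1' (mem_c.2 (c.od.mem_of_orbit (K := 𝐂[V']) c.toCm.pg c.iS
    (h.b1.le hv) (fun a a1 => ?_) v' hv')))
  have t := tw_map h (MulDistribMulAction.toMulAut A G a)
  rw [c.iS.map_eq a] at t
  exact c.toCm.comm h.symm t (fun e => h.z1 (c.od.nc h.z2 a1 (by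
    rw [show a • z = z from e.symm]))) ⟨v, hv, rfl⟩

end Cfsg.Agent.OD
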