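import Cfsg.Agent.Baum.B3
import Cfsg.Agent.Baum.ApiC
import Cfsg.Agent.Solv.ExtAction

/-!
# Definitions for Theorem OD and S4008 (captain helper80)

THEOREM OD.  `A` of odd prime order acts coprimely on `G` without fixed involution ⇒ `G` solvable.
The proof is Baumann's argument (folder `Baum/`, S3223) with the involution `t` replaced by
`I = Ω₁Z(S)` whose normaliser is 2-closed modulo its odd core `D` (`Cm I S D`).

* `Od A G` the hypothesis, `Al A I S D` the local data of a minimal counterexample;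
* `Rq B X W`: rank one triple as `Baum.Rk`, but the Borel subgroup of `X` is `X ⊓ 𝐍[𝐙[B]]`
  (it need not normalise `B`); `Fr B X W` repairs this modulo `C(Q)`;
* `MQ`, `Fm`: analogues of `Baum.MP`, `Baum.Fam`.  Four-group twins are `Baum.Tw` (API Baum/Blk up
  to `Tw.ex0`, Baum/LemG four-group lemmas; nothing that needs `Bm`).
-/

set_option autoImplicit false
set_option linter.unusedSectionVars false

namespace Cfsg.Agent.OD

open Cfsg.Agent.PLocal hiding centralizer_anti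
open Subgroup Cfsg Cfsg.Agent.PLocal.Amb Cfsg.Agent.PLocal.TV
open Cfsg.Agent.PLocal.SL2Nat Cfsg.Agent.PLocal.Bk
open Cfsg.Agent.PLocal.CP (IsCharP MinOver ncl)
open Cfsg.Agent.Baum Cfsg.Agent.Solv
open scoped commutatorElement MatrixGroups Cfsg.Agent.PLocal.CP

variable {G : Type*} [Group G]

/-- `A` has odd prime order, acts coprimely and fixes no involution. -/
structure Od (A G : Type*) [Group A] [Group G] [MulDistribMulAction A G] : Prop where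
  pr : (Nat.card A).Prime
  od : Nat.card A ≠ 2
  cop : (Nat.card A).Coprime (Nat.card G)
  nf : ∀ w : G, w * w = 1 → (∀ a : A, a • w = w) → w = 1

/-- `N(I)` is 2-closed modulo the odd group `D`, and `I ≤ Ω₁Z(S)`. -/
structure Cm (I S D : Subgroup G) : Prop where
  syl : IsSyl 2 S ⊤
  IZ : I ≤ 𝐙[S]
  odd : Odd (Nat.card D)
  DC : D ≤ 𝐂[I]
  nD : 𝐍[I] ≤ 𝐍[D]
  nDS : 𝐍[I] ≤ 𝐍[D ⊔ S]
  nS : 𝐍[S] ≤ 𝐍[I]

/-- the local data of a minimal counterexample -/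
structure Al (A : Type*) [Group A] [MulDistribMulAction A G] (I S D : Subgroup G) : Prop
    extends Cm I S D where
  od : Od A G
  ne : I ≠ ⊥
  iS : Ext.Inv A S
  iI : Ext.Inv A I
  com : ∀ n ∈ 𝐍[I], ∀ w ∈ I, ∀ a : A, a • (n * w * n⁻¹) = n * a • w * n⁻¹
  inv : ∀ H : Subgroup G, Ext.Inv A H → S ≤ H → I ≤ pCoreOf 2 H → H ≤ 𝐍[I]

/-- rank one triple -/
structure Rq (B X W : Subgroup G) : Prop where
  pg : IsPGroup 2 B
  zj : 𝐙[𝐉[2, B]] = 𝐙[B]
  BX : B ≤ X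
  ZW : 𝐙[B] ≤ W
  WB : W ≤ B
  ea : IsElementaryAbelian 2 W
  nW : X ≤ 𝐍[W]
  nQ : X ≤ 𝐍[𝐐[B, W]]
  off : ∃ A ∈ maxEA 2 B, ¬ A ≤ 𝐂[W]
  syl : IsSyl 2 B X
  sd : ∃ (F : Type) (_ : Field F) (_ : Fintype F) (_ : CharP F 2)
    (D : SD (Fin 2 → F) W 𝐅[X, W]), X ≤ D.N ∧ D.im X = (slG F).range ∧ D.im B = Ui F ∧
      X ⊓ D.ker ≤ 𝐂[W] ∧ ∀ x ∈ X, D.act x ∉ 𝐍[Ui F] → X ≤ B ⊔ cj(x, B)

/-- the Borel subgroup normalises `B` modulo `C_X(Q)` -/
def Fr (B X W : Subgroup G) : Prop :=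
  ∀ x ∈ X, x ∈ 𝐍[𝐙[B]] → ∃ k ∈ X ⊓ 𝐂[𝐐[B, W]], k⁻¹ * x ∈ 𝐍[B]

/-- two rank one triples over `B` with non-commuting modules -/
structure MQ (B X₁ W₁ X₂ W₂ : Subgroup G) : Prop where
  r1 : Rq B X₁ W₁
  r2 : Rq B X₂ W₂
  nc : ¬ W₁ ≤ 𝐂[W₂]

/-- a conjugation invariant commuting family of rank one triples -/
structure Fm (Φ : Subgroup G → Subgroup G → Subgroup G → Prop) : Prop where
  rk : ∀ B X W, Φ B X W → Rq B X W
  cj : ∀ B X W (g : G), Φ B X W → Φ cj(g, B) cj(g, X) cj(g, W)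
  comm : ∀ B X W X' W', Φ B X W → Φ B X' W' → W ≤ 𝐂[W']
  fr : ∀ B X W, Φ B X W → Fr B X W

/-- `N(B)` together with all rank one groups over `B` -/
def MM (B : Subgroup G) : Subgroup G :=
  𝐍[B] ⊔ ⨆ (X : Subgroup G) (W : Subgroup G) (_ : Rq B X W), X

end Cfsg.Agent.OD
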