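import Cfsg.Agent.OD.ApiA
import Cfsg.Agent.Baum.EX

/-! # Existence of rank one triples (port of Baum/EX; S4008, captain helper80). -/

set_option autoImplicit false
set_option linter.unusedSectionVars false
set_option linter.unusedVariables false

namespace Cfsg.Agent.OD

open Cfsg.Agent.PLocal hiding centralizer_anti
open Subgroup Cfsg Cfsg.Agent.PLocal.Amb Cfsg.Agent.PLocal.TV
open Cfsg.Agent.PLocal.SL2Nat Cfsg.Agent.PLocal.Bk
open Cfsg.Agent.PLocal.CP (IsCharP MinOver ncl)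
open Cfsg.Agent.Baum
open scoped commutatorElement MatrixGroups Cfsg.Agent.PLocal.CP

variable {G : Type*} [Group G] [Finite G] {I P H M : Subgroup G}

theorem ex0 (hP : IsSyl 2 P ⊤) (h3 : 𝐂[pCore 2 G] ≤ M) (h4 : 𝐂[𝐙[P]] ≤ M) (hM : MinOver P M ⊤)
    (hN : 𝐍[𝐁[2, P]] ≤ M) : ∃ X W, Rq 𝐁[2, P] X W := by
  have := Fact.mk Nat.prime_two
  have hbau : Bau 2 𝐁[2, P] ⊤ := bau_syl hP le_top
  have hBP : 𝐁[2, P] ≤ P := inf_le_left
  generalize 𝐁[2, P] = B at *
  have hOP : pCore 2 G ≤ P := by have := hP.pCoreOf_le; rwa [Amb.pCoreOf_top] at this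
  have hZV : 𝐙[P] ≤ 𝐙[pCore 2 G] := by
    have h1 : 𝐙[P] ≤ 𝐂[pCore 2 G] := (Z_le_cent P).trans (centralizer_anti hOP)
    have h2 : P ⊓ 𝐂[pCore 2 G] ≤ pCoreOf 2 ⊤ := le_pCoreOf (hP.pgrp.to_le inf_le_left) le_top
      (hM.le_normalizer_inf_syl hP le_rfl h3 (le_normalizer_centralizer (by
        rw [← Amb.pCoreOf_top]; exact le_normalizer_pCoreOf 2 ⊤)))
    rw [Amb.pCoreOf_top] at h2
    exact isEA_le_omegaOne (Z_ea P) (le_inf ((le_inf (Z_le P) h1).trans h2) h1)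
  obtain ⟨F, _, _, _, H, U, U₀, D, h1, h2, h3, h4, h5, -, h7, h8, h9⟩ := Ex.bm_exists_nat hZV hbau
    hP hBP hM hN h4
  obtain ⟨s, hs, hs'⟩ := (isSyl_Ui (F := F) 2).exists_cj_le (D.isPGroup_im hbau.pgrp)
    (h2 ▸ D.im_mono h3)
  let D' := D.congr (GA.eqv s)
  have h2' : D'.im H = (slG F).range := by rw [D.congr_eqv_im, h2, cj_of_mem hs]
  rw [← D.ker_eq D'] at h5
  have h1' : H ≤ D'.N := h1
  obtain ⟨L, l1, l2, hUB, eY, l4, l5, l6⟩ := Ex.bm_exists_rank_one hbau D' h1' h2'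
    (by rw [D.congr_eqv_im]; exact hs') h3 h4 (h5.trans inf_le_left) h7 h8
  clear_value D'
  have hLN := l1.trans h1'
  have hU : IsElementaryAbelian 2 U := isEA_mono (Z_ea _) h8
  set W := 𝐙[B] ⊔ U with hWe
  rw [inf_comm] at eY
  have hW : IsElementaryAbelian 2 W :=
    isEA_sup (Z_ea B) hU ((Z_le_cent B).trans (centralizer_anti hUB))
  have hLC : L ≤ 𝐂[W ⊓ 𝐂[L]] := cent_symm inf_le_right
  have hLW : L ≤ 𝐍[W] := by
    rw [eY]
    exact le_normalizer_sup (hLN.trans D'.N_le) (hLC.trans (centralizer_le_normalizer' _))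
  obtain ⟨D₁, hD⟩ := ex_grow D' (W := W) (C := W ⊓ 𝐂[L]) le_sup_right inf_le_left eY.le
    (isEA_le_centralizer hW) (le_antisymm (by
      rw [← D'.pre_bot, ← Ex.fx_range, ← l4]
      exact (inf_le_inf_left _ inf_le_right).trans (D'.inf_centralizer_le_pre hLN))
      (le_inf D'.le (le_inf (D'.le.trans le_sup_right) (h9.trans (centralizer_anti l1)))))
  have hN₁ : L ≤ D₁.N := D₁.le_N hLW (hLC.trans (centralizer_le_normalizer' _))
  have ea : ∀ x ∈ L, D₁.act x = D'.act x := fun x hx => hD x (hLN hx) (hN₁ hx)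
  have ei : ∀ X ≤ L, D₁.im X = D'.im X := fun X hX => by
    ext s
    rw [D₁.mem_im' (hX.trans hN₁), D'.mem_im' (hX.trans hLN)]
    exact exists_congr fun x => and_congr_right fun hx => by rw [ea x (hX hx)]
  have hK : L ⊓ D₁.ker ≤ 𝐂[W] := fun x hx => by
    rw [eY, Amb.centralizer_sup]
    exact ⟨(h5 ⟨l1 hx.1, D'.mem_ker.2 ⟨hLN hx.1, ea x hx.1 ▸ (D₁.mem_ker.1 hx.2).2⟩⟩).1, hLC hx.1⟩
  have hBL := l2.le
  have i4 := (ei L le_rfl).trans l4
  have i5 := (ei B hBL).trans l5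
  refine ⟨L, W, hbau.pgrp, hbau.omegaZ_J, hBL, le_sup_left, sup_le (Z_le B) hUB, hW, hLW, ?_, ?_, l2,
    F, _, inferInstance, inferInstance, D₁, hN₁, i4, i5, hK, fun x hx hn => ?_⟩
  · have k0 : L ≤ 𝐍[L ⊓ D₁.ker] :=
      le_normalizer_inf le_normalizer (hN₁.trans D₁.N_le_normalizer_ker)
    have k1 := (l2.inf_of_le inf_le_left k0).frattini_sup inf_le_left k0
    rw [show B ⊓ 𝐂[W] = B ⊓ (L ⊓ D₁.ker) from le_antisymm
      (le_inf inf_le_left (inf_le_inf hBL D₁.centralizer_le_ker)) (inf_le_inf_left _ hK)]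
    refine (l6 _ (le_inf hBL (le_normalizer_inf le_normalizer (hBL.trans k0))) inf_le_left ?_).ge.trans
      inf_le_right
    rw [← ei _ inf_le_left, ← i4]
    refine le_antisymm (D₁.im_mono inf_le_left) ?_
    exact (D₁.im_mono (k1.ge.trans ((sup_comm _ _).le.trans (sup_le_sup_left inf_le_right _)))).trans
      (D₁.im_sup_ker (inf_le_left.trans hN₁)).le
  · by_contra k
    push Not at k
    exact h7 ((thompsonSubgroupOf_le_iff.2 k).trans (centralizer_anti le_sup_right))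
  · have hxB : cj(x, B) ≤ L := cj_le_of_mem hBL hx
    refine (l6 _ le_sup_left (sup_le hBL hxB) ?_).ge
    rw [← ei _ (sup_le hBL hxB), D₁.im_sup (hBL.trans hN₁) (hxB.trans hN₁), D₁.im_cj (hN₁ hx), i5]
    exact Ui_sup_cj (i4 ▸ D₁.act_mem_im hx) hn

theorem ex (hP : IsSyl 2 P H) (h1 : I ≤ 𝐙[P]) (h2 : I ≤ pCoreOf 2 H) (h3 : 𝐂[I] ≤ M)
    (hN : 𝐍[𝐁[2, P]] ≤ M) (hH : ¬ H ≤ M) : ∃ X W, Rq 𝐁[2, P] X W := by
  have := Fact.mk Nat.prime_two
  have hNP : 𝐍[P] ≤ M := (normalizer_le_normalizer_baumann P).trans hN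
  obtain ⟨K, k1, k2, k3, -⟩ := exists_min hP (one_mem _) (one_mem _) (le_normalizer.trans hNP) hNP hH
  have hinj := K.subtype_injective
  have eP : (P.subgroupOf K).map K.subtype = P := map_subgroupOf_of_le k2.le
  have IO : I ≤ (pCore 2 K).map K.subtype :=
    (le_inf ((h1.trans (Z_le P)).trans k2.le) h2).trans (inf_pCoreOf_le k1)
  obtain ⟨X, W, r⟩ := ex0 (M := M.subgroupOf K) (P := P.subgroupOf K) (by
      obtain ⟨Q, hQ⟩ := k2.exists_sylow
      rw [← hQ]; exact isSyl_top Q)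
    (fun x hx => h3 (centralizer_anti IO ((mem_centralizer_map hinj).2 hx)))
    (fun x hx => h3 (centralizer_anti h1 (by
      rw [← eP, ← map_omegaOne_center _ hinj]; exact (mem_centralizer_map hinj).2 hx)))
    (CP.minOver_map_subtype.1 (by rwa [eP, subgroupOf_map_subtype]))
    (fun x hx => hN (by
      rw [← mem_normalizer_map_iff hinj, BlockTr.map_baumann _ hinj, eP] at hx; exact hx))
  have r' := r.map hinj
  rw [BlockTr.map_baumann _ hinj, eP] at r'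
  exact ⟨_, _, r'⟩

end Cfsg.Agent.OD
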