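import Cfsg.Agent.OD.ApiC
import Cfsg.Agent.OD.Alpha

/-! # The field has two elements (S4008, captain helper80). -/

set_option autoImplicit false
set_option linter.unusedSectionVars false
set_option linter.unusedVariables false

namespace Cfsg.Agent.OD

open Cfsg.Agent.PLocal hiding centralizer_anti
open Subgroup Cfsg Cfsg.Agent.PLocal.Amb Cfsg.Agent.PLocal.TV
open Cfsg.Agent.PLocal.SL2Nat Cfsg.Agent.PLocal.Bk
open Cfsg.Agent.PLocal.CP (IsCharP MinOver ncl)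
open Cfsg.Agent.Baum
open scoped commutatorElement MatrixGroups Cfsg.Agent.PLocal.CP

variable {A G : Type*} [Group A] [Group G] [Finite A] [Finite G] [MulDistribMulAction A G]
  {I S D B X W : Subgroup G}

theorem Al.q_two (c : Al A I S D) (h : Rq B X W) (hI : I ≤ 𝐙[B]) (hN : 𝐍[B] ≤ 𝐍[I]) :
    𝐪[B, W] = 2 := by
  refine le_antisymm (not_lt.1 fun hq => ?_) h.two_le
  obtain ⟨g, hg, g1, -, g2⟩ := h.cartan hq
  have gI := h.borel c.toCm hI hN hg g1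
  obtain ⟨w, hw, w1⟩ := SetLike.not_le_iff_exists.1 (h.notC c.toCm)
  haveI : Nontrivial A := Finite.one_lt_card_iff_nontrivial.1 c.od.pr.one_lt
  obtain ⟨a, a1⟩ := exists_ne (1 : A)
  have IW := hI.trans h.ZW
  have m : ∀ u ∈ I, ⁅g, u⁆ ∈ I := fun u hu => mul_mem (conj_mem_of_mem_normalizer gI hu) (inv_mem hu)
  have n : ∀ u ∈ I, u ∉ 𝐂[X] → ⁅g, u⁆ ∉ 𝐅[X, W] := fun u hu u1 e => u1 (g2 u (IW hu) e).2
  have e : a • ⁅g, w⁆ = ⁅g, a • w⁆ := by
    rw [commutatorElement_def, smul_mul', c.com g gI w hw, smul_inv', commutatorElement_def]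
  have aw := c.iI a w hw
  have ne : ⁅g, w⁆ ≠ 1 := fun k => n w hw w1 (k ▸ one_mem _)
  have w2 : a • w ∉ 𝐂[X] := fun k => ne (by
    rwa [commutatorElement_eq_one_iff_mul_comm.2 (k g hg), smul_eq_iff_eq_inv_smul, smul_one] at e)
  obtain ⟨x, hx, x1, x2⟩ := h.tor (hI (m w hw)) (n w hw w1) (hI (m _ aw)) (n _ aw w2)
  have xI := h.borel c.toCm hI hN hx x1
  have xw := conj_mem_of_mem_normalizer xI hw
  have t := h.torc (inv_mem hg) (inv_mem g1) hx x1 _ (hI xw)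
  have e1 : x * ⁅g, w⁆ * x⁻¹ = ⁅g, x * w * x⁻¹⁆ := by
    rw [commutatorElement_def g⁻¹] at t
    calc _ = g * (g⁻¹ * x * g⁻¹⁻¹ * x⁻¹ * (x * w * x⁻¹)) * x * g⁻¹ * w⁻¹ * x⁻¹ := by
          rw [commutatorElement_def]; group
      _ = _ := by rw [← t, commutatorElement_def]; group
  have e2 : ⁅g, x * w * x⁻¹⁆ * ⁅g, a • w⁆⁻¹ = ⁅g, x * w * x⁻¹ * (a • w)⁻¹⁆ := by
    have k1 := h.Wc (IW xw) _ (IW aw)
    have k2 := h.Wc (IW (mul_mem (inv_mem xw) aw)) _ (IW (conj_mem_of_mem_normalizer gI (inv_mem aw)))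
    generalize x * w * x⁻¹ = u at *
    generalize a • w = v at *
    calc _ = g * u * g⁻¹ * (u⁻¹ * v * (g * v⁻¹ * g⁻¹)) := by simp only [commutatorElement_def]; group
      _ = g * u * g⁻¹ * (g * v⁻¹ * g⁻¹) * (u⁻¹ * (v * u) * u⁻¹) := by rw [← k2]; group
      _ = _ := by rw [k1, commutatorElement_def]; group
  rw [e1, e2] at x2
  have e3 := commutatorElement_eq_one_iff_mul_comm.2
    ((g2 _ (IW (mul_mem xw (inv_mem aw))) x2).2 g hg)
  rw [← e2, ← e1, ← e, mul_inv_eq_one] at e3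
  exact ne (c.od.nc (c.sq (m w hw)) a1 (isConj_iff.2 ⟨x, e3⟩))

end Cfsg.Agent.OD
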