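import Cfsg.Agent.OD.CmL

/-! # Two pure four-group lemmas (S4008, captain helper80).  API: Baum/LemG (`four_cases`,
`four_comm`, `four_orbit`, `four_ex`, `mem_zp2`), Baum/Blk (`fpf_pow`, `exists_two_odd`). -/

set_option autoImplicit false
set_option linter.unusedSectionVars false
set_option linter.unusedVariables false

namespace Cfsg.Agent.OD

open Cfsg.Agent.PLocal hiding centralizer_anti
open Subgroup Cfsg Cfsg.Agent.PLocal.Amb Cfsg.Agent.PLocal.TV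
open Cfsg.Agent.PLocal.SL2Nat Cfsg.Agent.PLocal.Bk
open Cfsg.Agent.PLocal.CP (IsCharP MinOver ncl)
open Cfsg.Agent.Baum Cfsg.Agent.Solv
open scoped commutatorElement MatrixGroups Cfsg.Agent.PLocal.CP

variable {G : Type*} [Group G] [Finite G] {S V U : Subgroup G} {ρ σ z v y : G}

/-- `u ↦ ⁅ρ, u⁆` is injective, so bijective, on `V` (abelian, `ρ` fixed point free); for `b ∈ U`
take `u ∈ V` with `⁅ρ, u⁆ = ⁅ρ, b⁆`; then `ρ` centralises `b u` (`V ⊔ U` is elementary abelian). -/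
theorem fix_coset (cV : Nat.card V = 4) (sV : ∀ v ∈ V, v * v = 1) (nρ : ρ ∈ 𝐍[V])
    (fρ : ∀ v ∈ V, ρ ∈ 𝐜[v] → v = 1) {b : G} (hb : b ∈ 𝐂[V]) (k : ⁅ρ, b⁆ ∈ V) :
    ∃ u ∈ V, b * u ∈ 𝐜[ρ] := by
  let φ : V → V := fun v => ⟨⁅ρ, (v : G)⁆, mul_mem (conj_mem_of_mem_normalizer nρ v.2) (inv_mem v.2)⟩
  have fx : ∀ a b : G, ⁅ρ, a⁆ = ⁅ρ, b⁆ → ρ ∈ 𝐜[a⁻¹ * b] := fun a b e => mem_c'.2 (by
    rw [← conj_mul, ← conj_inv, conj_eq_comm, conj_eq_comm, e]; group)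
  have hφ : Function.Surjective φ := Finite.surjective_of_injective fun a b e => Subtype.ext
    (inv_mul_eq_one.1 (fρ _ (mul_mem (inv_mem a.2) b.2) (fx _ _ (congrArg Subtype.val e))))
  obtain ⟨v, e⟩ := hφ ⟨_, k⟩
  exact ⟨_, inv_mem v.2, hb _ (inv_mem v.2) ▸ c_comm.1 (fx _ _ (congrArg Subtype.val e))⟩

/-- Lemma G'.  `E = V U` has order 8, `O` = orbit of `z` under `H = ⟨ρ, σ⟩`; `V^# ∪ U^# ⊆ O`
(`four_orbit`).  Take `b ∈ U \ ⟨z⟩`, `a ∈ V \ ⟨z⟩` (`four_ex`); `b ∉ V`, `a ∉ U` (else `U = V` by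
`four_cases`).  `fix_coset`: `c = b u ∈ C(ρ)` (`u ∈ V`), `c' = a u' ∈ C(σ)` (`u' ∈ U`), both `≠ 1`.
If `u = 1` then `c = b ∈ O`: first case.  Otherwise the `⟨ρ⟩`-orbit of `b = c u` is `c V^#`
(`four_orbit` for `u`), so `c w ∈ O` for all `w ∈ V^#`.  If `u' ∈ ⟨z⟩` then `c' ∈ V^# ⊆ O`: first
case.  Otherwise `u' ∈ {b, b z}`, so `c' = c w` with `w ∈ V`; `w ≠ 1`: `c' ∈ O`, first case;
`w = 1`: `r = c = c'`, and `c z = z r ∈ O`. -/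
theorem lemG (cV : Nat.card V = 4) (sV : ∀ v ∈ V, v * v = 1) (cU : Nat.card U = 4)
    (sU : ∀ u ∈ U, u * u = 1) (ne : V ≠ U) (hc : U ≤ 𝐂[V]) (z1 : z ≠ 1) (zV : z ∈ V) (zU : z ∈ U)
    (nρ : ρ ∈ 𝐍[V]) (fρ : ∀ v ∈ V, ρ ∈ 𝐜[v] → v = 1) (kρ : ∀ u ∈ U, ⁅ρ, u⁆ ∈ V)
    (nσ : σ ∈ 𝐍[U]) (fσ : ∀ u ∈ U, σ ∈ 𝐜[u] → u = 1) (kσ : ∀ v ∈ V, ⁅σ, v⁆ ∈ U) :
    (∃ h ∈ zpowers ρ ⊔ zpowers σ, h * z * h⁻¹ ∈ 𝐜[ρ] ∨ h * z * h⁻¹ ∈ 𝐜[σ]) ∨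
      ∃ r ∈ V ⊔ U, r ≠ 1 ∧ r ∈ 𝐜[ρ] ∧ r ∈ 𝐜[σ] ∧
        ∃ g ∈ zpowers ρ ⊔ zpowers σ, g * z * g⁻¹ = z * r := by
  have z2 := sV z zV
  let O : G → Prop := fun x => ∃ h ∈ zpowers ρ ⊔ zpowers σ, h * z * h⁻¹ = x
  have oV : ∀ v ∈ V, v ≠ 1 → O v := fun v hv v1 =>
    let ⟨i, e⟩ := four_orbit cV sV nρ fρ zV z1 hv v1
    ⟨_, mem_sup_left (pow_mem (mem_zpowers ρ) i), e⟩
  have oU : ∀ v ∈ U, v ≠ 1 → O v := fun v hv v1 =>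
    let ⟨i, e⟩ := four_orbit cU sU nσ fσ zU z1 hv v1
    ⟨_, mem_sup_right (pow_mem (mem_zpowers σ) i), e⟩
  obtain ⟨b, hb, b1⟩ := four_ex cU z2
  obtain ⟨a, ha, a1⟩ := four_ex cV z2
  have b0 : b ≠ 1 := fun r => b1 (r ▸ one_mem _)
  have bV : b ∉ V := fun r => ne (eq_of_le_of_card_ge (fun w hw => by
    rcases four_cases cU zU z1 hb b1 z2 hw with rfl | rfl | rfl | rfl
    exacts [one_mem _, zV, r, mul_mem r zV]) (by rw [cU, cV])).symm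
  obtain ⟨u, hu, e⟩ := fix_coset cV sV nρ fρ (hc hb) (kρ b hb)
  obtain ⟨u', hu', e'⟩ := fix_coset cU sU nσ fσ (le_centralizer_iff.1 hc ha) (kσ a ha)
  by_cases u1 : u = 1
  · obtain ⟨h, h1, h2⟩ := oU b hb b0
    exact .inl ⟨h, h1, .inl (by rwa [h2, ← mul_one b, ← u1])⟩
  have oc : ∀ w ∈ V, w ≠ 1 → O (b * u * w) := fun w hw w1 => by
    obtain ⟨i, r⟩ := four_orbit cV sV nρ fρ hu u1 hw w1
    obtain ⟨h, h1, h2⟩ := oU b hb b0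
    refine ⟨ρ ^ i * h, mul_mem (mem_sup_left (pow_mem (mem_zpowers ρ) i)) h1, ?_⟩
    rw [← r, ← mem_c'.1 (pow_mem (c_comm.1 e) i), conj_mul, mul_assoc b, sV u hu, mul_one, ← h2]
    group
  have two : O (a * u') → ∃ h ∈ zpowers ρ ⊔ zpowers σ, h * z * h⁻¹ ∈ 𝐜[ρ] ∨ h * z * h⁻¹ ∈ 𝐜[σ] :=
    fun ⟨h, h1, h2⟩ => ⟨h, h1, .inr (h2 ▸ e')⟩
  by_cases u2 : u' ∈ zpowers z
  · exact .inl (two (oV _ (mul_mem ha (zpowers_le.2 zV u2)) fun r => a1 (by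
      rw [eq_inv_of_mul_eq_one_left r]; exact inv_mem u2)))
  obtain ⟨ε, hε, rfl⟩ : ∃ ε ∈ V, u' = b * ε := by
    rcases four_cases cU zU z1 hb b1 z2 hu' with r | r | r | r
    · exact absurd (r ▸ one_mem _) u2
    · exact absurd (r ▸ mem_zpowers z) u2
    · exact ⟨1, one_mem _, by rw [r, mul_one]⟩
    · exact ⟨z, zV, r⟩
  have k : a * (b * ε) = b * u * (u⁻¹ * a * ε) := by rw [← mul_assoc, hc hb a ha]; group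
  by_cases w1 : u⁻¹ * a * ε = 1
  · rw [w1, mul_one] at k
    obtain ⟨g, g1, g2⟩ := oc z zV z1
    refine .inr ⟨b * u, mul_mem (mem_sup_right hb) (mem_sup_left hu), fun r => bV ?_, e, k ▸ e', g, g1, ?_⟩
    · rw [eq_inv_of_mul_eq_one_left r]; exact inv_mem hu
    · rw [g2, ← mul_assoc, hc hb z zV, mul_assoc, mul_assoc, comm_of_sq sV hu zV]
  · exact .inl (two (k ▸ oc _ (mul_mem (mul_mem (inv_mem hu) ha) hε) w1))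

/-- `w = y v y⁻¹`, `g = v w`, `ρ = g ^ 2 ^ k` of odd order (`exists_two_odd`).  The set
`{a ∈ N(V) ⊓ N(Q) | ⁅a, Q⁆ ≤ V}` is a subgroup (see `Tw.main` in Baum/Blk) containing `v` and `w`
(`⁅w, q⁆ = y ⁅v, y⁻¹ q y⁆ y⁻¹`).  `g` is fixed point free on `V` (copy `Tw.g_fpf`): if `g` fixes
`u ∈ V` then `⁅w, u⁆ = ⁅v⁻¹, u⁆ ∈ ⟨z^y⟩ ⊓ ⟨z⟩ = 1` (`four_comm` twice, `z^y ≠ z`), so `v` and `w`
fix `u`; `v ∉ C(V)` gives `u ∈ ⟨z⟩` (`four_cases`), `w ∉ C(V)` gives `u ∈ ⟨z^y⟩`.  `fpf_pow`. -/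
theorem exists_rho (cV : Nat.card V = 4) (sV : ∀ v ∈ V, v * v = 1) (zV : z ∈ V) (z1 : z ≠ 1)
    (v1 : v ∈ 𝐍[V]) (v2 : v ∈ 𝐜[z]) (v3 : v ∉ 𝐂[V]) (v4 : v ∈ 𝐍[𝐐[S, V]])
    (v5 : ∀ q ∈ 𝐐[S, V], ⁅v, q⁆ ∈ zpowers z) (y1 : y ∈ 𝐍[V]) (y2 : y ∈ 𝐍[𝐐[S, V]])
    (y3 : y ∉ 𝐜[z]) : ∃ ρ, Rho S V ρ := by
  let A : Subgroup G :=
    { carrier := {a | a ∈ 𝐍[V] ⊓ 𝐍[𝐐[S, V]] ∧ ∀ x ∈ 𝐐[S, V], ⁅a, x⁆ ∈ V}
      one_mem' := ⟨one_mem _, fun x _ => by simp⟩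
      mul_mem' := fun {a b} ha hb => ⟨Subgroup.mul_mem _ ha.1 hb.1, fun x hx => by
        rw [show ⁅a * b, x⁆ = a * ⁅b, x⁆ * a⁻¹ * ⁅a, x⁆ by simp only [commutatorElement_def]; group]
        exact mul_mem (conj_mem_of_mem_normalizer ha.1.1 (hb.2 x hx)) (ha.2 x hx)⟩
      inv_mem' := fun {a} ha => ⟨Subgroup.inv_mem _ ha.1, fun x hx => by
        rw [show ⁅a⁻¹, x⁆ = ⁅a, a⁻¹ * x * a⁆⁻¹ by simp only [commutatorElement_def]; group]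
        exact inv_mem (ha.2 _ (inv_conj_mem_of_mem_normalizer ha.1.2 hx))⟩ }
  have mv : v ∈ A := ⟨⟨v1, v4⟩, fun x hx => zpowers_le.2 zV (v5 x hx)⟩
  have mw : y * v * y⁻¹ ∈ A := ⟨mem_inf.2 ⟨mul_mem (mul_mem y1 v1) (inv_mem y1), mul_mem (mul_mem y2 v4) (inv_mem y2)⟩,
    fun x hx => by
      rw [show ⁅y * v * y⁻¹, x⁆ = y * ⁅v, y⁻¹ * x * y⁆ * y⁻¹ by simp only [commutatorElement_def]; group]
      exact conj_mem_of_mem_normalizer y1 (mv.2 _ (inv_conj_mem_of_mem_normalizer y2 hx))⟩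
  have zV' := conj_mem_of_mem_normalizer y1 zV
  have z1' : y * z * y⁻¹ ≠ 1 := fun k => z1 (conj_eq_one_iff.1 k)
  have w2 : y * v * y⁻¹ ∈ 𝐜[y * z * y⁻¹] := by rw [centralizer_singleton_conj]; exact conj_mem_cj y v2
  have one : ∀ u ∈ zpowers z, u ∈ zpowers (y * z * y⁻¹) → u = 1 := fun u h1 h2 =>
    ((mem_zp2 (sV z zV)).1 h1).resolve_right fun k => ((mem_zp2 (sV _ zV')).1 h2).elim (fun r => z1 (k ▸ r))
      fun r => y3 (mem_c'.2 (r.symm.trans k))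
  have aux : ∀ {s t u}, t ∈ V → t ≠ 1 → s ∈ 𝐜[t] → s ∉ 𝐂[V] → u ∈ V → s ∈ 𝐜[u] → u ∈ zpowers t :=
    fun {s t u} h1 h2 h3 h4 h5 h6 => by_contra fun h7 => h4 fun x hx => by
      rcases four_cases cV h1 h2 h5 h7 (sV t h1) hx with rfl | rfl | rfl | rfl
      exacts [by simp, (mem_c.1 h3).symm, (mem_c.1 h6).symm, mem_c.1 (mul_mem (c_comm.1 h6) (c_comm.1 h3))]
  have fp : ∀ u ∈ V, v * (y * v * y⁻¹) ∈ 𝐜[u] → u = 1 := fun u hu e => by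
    have c1 := four_comm cV sV zV z1 (inv_mem v1) (inv_mem v2) hu
    have c2 := four_comm cV sV zV' z1' mw.1.1 w2 hu
    have e2 : ⁅y * v * y⁻¹, u⁆ = ⁅v⁻¹, u⁆ := by
      have e0 := mem_c'.1 e
      generalize y * v * y⁻¹ = w at e0
      rw [commutatorElement_def, commutatorElement_def v⁻¹, mul_left_inj]
      calc w * u * w⁻¹ = v⁻¹ * (v * w * u * (v * w)⁻¹) * v⁻¹⁻¹ := by group
        _ = _ := by rw [e0]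
    have e3 := one _ c1 (e2 ▸ c2)
    refine one u (aux zV z1 v2 v3 hu (inv_mem_iff.1 (mem_c_iff_comm.2 e3)))
      (aux zV' z1' w2 (fun k => v3 ?_) hu (mem_c_iff_comm.2 (e2.trans e3)))
    simpa [mul_assoc] using inv_conj_mem_of_mem_normalizer (normalizer_le_normalizer_centralizer V y1) k
  obtain ⟨k, -, -, -, ho⟩ := exists_two_odd (v * (y * v * y⁻¹))
  have m := pow_mem (mul_mem mv mw) (2 ^ k)
  exact ⟨_, ho, m.1.1, m.1.2, m.2, fun c => z1 (fpf_pow sV (mul_mem mv mw).1.1 fp k z zV (cent_le_c zV c))⟩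

end Cfsg.Agent.OD
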