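import Cfsg.Agent.OD.Pair
import Cfsg.Agent.OD.LemG

/-! # A non-commuting pair with `q = 2` gives twins (S4008, captain helper80). -/

set_option autoImplicit false
set_option linter.unusedSectionVars false
set_option linter.unusedVariables false

namespace Cfsg.Agent.OD

open Cfsg.Agent.PLocal hiding centralizer_anti
open Subgroup Cfsg Cfsg.Agent.PLocal.Amb Cfsg.Agent.PLocal.TV
open Cfsg.Agent.PLocal.SL2Nat Cfsg.Agent.PLocal.Bk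
open Cfsg.Agent.PLocal.CP (IsCharP MinOver ncl)
open Cfsg.Agent.Baum
open scoped commutatorElement MatrixGroups Cfsg.Agent.PLocal.CP

variable {G : Type*} [Group G] [Finite G] {I S D B X X' W X₁ W₁ X₂ W₂ : Subgroup G} {s z ρ : G}

open Cfsg.Agent.Baum.BMx (two_dec)

/-- the pair produced by the engine -/
structure GQ (I S D B X₁ W₁ X₂ W₂ : Subgroup G) : Prop where
  cm : Cm I S D
  mp : MQ B X₁ W₁ X₂ W₂
  BS : B ≤ S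
  IZ : I ≤ 𝐙[B]
  bau1 : Bau 2 B 𝐍[W₁]
  bau2 : Bau 2 B 𝐍[W₂]
  q : 𝐪[B, W₁] = 2

theorem GQ.symm (h : GQ I S D B X₁ W₁ X₂ W₂) : GQ I S D B X₂ W₂ X₁ W₁ :=
  ⟨h.cm, h.mp.symm, h.BS, h.IZ, h.bau2, h.bau1, h.mp.q_eq.symm.trans h.q⟩

theorem GQ.nV (h : GQ I S D B X₁ W₁ X₂ W₂) : S ⊓ 𝐍[⁅W₁, X₁⁆] ≤ 𝐍[B] ⊓ 𝐍[W₁] ⊓ 𝐍[W₂] := by
  have m := h.mp
  have k : S ⊓ 𝐍[⁅W₁, X₁⁆] ⊓ 𝐍[B] ≤ 𝐍[W₁] ⊓ 𝐍[W₂] := fun s hs => by
    have s1 := (mem_inf.1 (mem_inf.1 hs).1).2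
    have s2 := (mem_inf.1 hs).2
    have s3 : s ∈ 𝐍[⁅W₁, B⁆] := m.r1.VZ ▸ le_normalizer_inf (L := 𝐍[⁅W₁, X₁⁆] ⊓ 𝐍[B]) inf_le_left
      (inf_le_right.trans (normalizer_le_Z B)) (mem_inf.2 ⟨s1, s2⟩)
    rcases m.fix s2 s3 with ⟨a, b⟩ | ⟨a, -⟩
    · exact mem_inf.2 ⟨cj_eq_iff.1 a, cj_eq_iff.1 b⟩
    · refine absurd ((le_inf m.r1.V_le ?_).trans m.inf_eq.le) (nVZ m)
      rw [← a, ← cj_of_mem_normalizer s1]
      exact cj_mono s m.r1.V_le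
  have p := h.cm.pg.to_le (inf_le_left : S ⊓ 𝐍[⁅W₁, X₁⁆] ≤ S)
  have l : B ≤ S ⊓ 𝐍[⁅W₁, X₁⁆] ⊓ 𝐍[B] :=
    le_inf (le_inf h.BS (m.r1.BX.trans m.r1.nV)) le_normalizer
  have e := eq_of_inf_normalizer_le p inf_le_left (inf_le_inf_left _
    (h.bau1.normalizer_le (p.to_le inf_le_left) l (k.trans inf_le_left)))
  rw [← e]
  exact le_inf (le_inf inf_le_right (k.trans inf_le_left)) (k.trans inf_le_right)

/-- `V ⊓ C = 1` when `Y = ⟨z⟩` -/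
theorem Rq.VC1 (r : Rq B X W) (e : ⁅W, B⁆ = zpowers z) {v : G} (hv : v ∈ ⁅W, X⁆)
    (hc : v ∈ 𝐅[X, W]) : v = 1 := by
  have zY : z ∈ ⁅W, B⁆ := e ▸ mem_zpowers z
  have k : v ∈ zpowers z := e ▸ r.VZ.le ⟨hv, r.CZ hc⟩
  refine ((mem_zp2 (r.sqW (r.ZW (r.quad zY)))).1 k).resolve_right fun k => r.not_YC ?_
  rw [e, zpowers_le, ← k]; exact hc

theorem Rq.zC (r : Rq B X W) (e : ⁅W, B⁆ = zpowers z) : z ∉ 𝐅[X, W] := fun k =>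
  r.not_YC (e ▸ zpowers_le.2 k)

theorem fix_of {C : Subgroup G} {w : G} (h3 : ∀ w ∈ W, ⁅ρ, w⁆ ∈ C → w ∈ C) (hw : w ∈ W)
    (e : w ∈ 𝐜[ρ]) : w ∈ C :=
  h3 w hw (by rw [mem_c_iff_comm.1 (c_comm.1 e)]; exact one_mem _)

/-- two triples with the same module and `I ≤ (C ⊓ C') ⟨z⟩` have the same four-group -/
theorem uniqV (c : Cm I S D) (r : Rq B X W) (r' : Rq B X' W) (ba : Bau 2 B 𝐍[W]) (z1 : z ≠ 1)
    (e : ⁅W, B⁆ = zpowers z) (c4 : Nat.card ↥⁅W, X⁆ = 4) (c4' : Nat.card ↥⁅W, X'⁆ = 4)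
    (hI : ∀ w ∈ I, w ∈ 𝐂[X ⊔ X'] ∨ w * z ∈ 𝐂[X ⊔ X']) : ⁅W, X⁆ = ⁅W, X'⁆ := by
  have := Fact.mk Nat.prime_two
  by_contra ne
  have zY : z ∈ ⁅W, B⁆ := e ▸ mem_zpowers z
  have zW := r.ZW (r.quad zY)
  obtain ⟨ρ, h1, -, h3⟩ := r.exRho
  obtain ⟨σ, g1, -, g3⟩ := r'.exRho
  have cm : ∀ {X : Subgroup G} {ρ u : G}, ρ ∈ X → u ∈ W → ⁅ρ, u⁆ ∈ ⁅W, X⁆ := fun h1 hu => by
    rw [commutator_comm]; exact commutator_mem_commutator h1 hu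
  have l : zpowers ρ ⊔ zpowers σ ≤ X ⊔ X' := sup_le_sup (zpowers_le.2 h1) (zpowers_le.2 g1)
  have nW : X ⊔ X' ≤ 𝐍[W] := sup_le r.nW r'.nW
  rcases lemG c4 (fun v hv => r.sqW (r.V_le hv)) c4' (fun v hv => r.sqW (r'.V_le hv)) ne
    ((r'.V_le.trans r.Wc).trans (centralizer_anti r.V_le)) z1 (commutator_mono le_rfl r.BX zY)
    (commutator_mono le_rfl r'.BX zY) (r.nV h1)
    (fun v hv k => r.VC1 e hv (fix_of h3 (r.V_le hv) (c_comm.1 k))) (fun u hu => cm h1 (r'.V_le hu))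
    (r'.nV g1) (fun v hv k => r'.VC1 e hv (fix_of g3 (r'.V_le hv) (c_comm.1 k)))
    (fun u hu => cm g1 (r.V_le hu)) with ⟨k, hk, k1⟩ | ⟨t, ht, t1, t2, t3, g, hg, k1⟩
  · have kW := conj_mem_of_mem_normalizer (nW (l hk)) zW
    have key : ∀ Y ≤ X ⊔ X', k * z * k⁻¹ ∈ 𝐂[Y] → cj(k, I) ≤ 𝐂[Y] := fun Y hY kz =>
      cj_le_iff_forall.2 fun w hw => by
        rcases hI w hw with a | a
        · rw [a k (l hk), mul_inv_cancel_right]; exact centralizer_anti hY a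
        · rw [show k * w * k⁻¹ = k * (w * z) * k⁻¹ * (k * z * k⁻¹)⁻¹ by group, a k (l hk),
            mul_inv_cancel_right]
          exact mul_mem (centralizer_anti hY a) (inv_mem kz)
    rcases k1 with k1 | k1
    · exact r.notC (c.cj k) (key X le_sup_left (fix_of h3 kW k1).2)
    · exact r'.notC (c.cj k) (key X' le_sup_right (fix_of g3 kW k1).2)
  · have tW := sup_le r.V_le r'.V_le ht
    obtain ⟨T, hT, lT⟩ := exists_isSyl_ge r.pg (r.BX.trans (le_sup_left : X ≤ X ⊔ X'))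
    have nB := ba.normalizer_le hT.pgrp lT (hT.le.trans nW)
    refine t1 (no_shift hT (fun x hx => ?_) (sup_le (le_c_iff.2 (fix_of h3 tW t2).2)
      (le_c_iff.2 (fix_of g3 tW t3).2)) (r.sqW tW) (l hg) k1)
    have := conj_mem_of_mem_normalizer (le_normalizer_commutator (hT.le.trans nW)
      (le_normalizer.trans nB) hx) zY
    rw [e, mem_zp2 (r.sqW zW)] at this
    exact mem_c'.2 (this.resolve_left fun k => z1 (conj_eq_one_iff.1 k))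

/-- Lemma U -/
theorem GQ.lemU (h : GQ I S D B X₁ W₁ X₂ W₂) (h1 : s ∈ 𝐂[I]) (h2 : s ∈ 𝐍[B]) (h3 : s ∈ 𝐍[W₁]) :
    s ∈ 𝐍[⁅W₁, X₁⁆] := by
  have r := h.mp.r1
  obtain ⟨z, z1, e, c4⟩ := h.mp.four h.q
  have zY : z ∈ ⁅W₁, B⁆ := e ▸ mem_zpowers z
  have zW := r.ZW (r.quad zY)
  have r' := r.cj s
  rw [cj_of_mem_normalizer h2, cj_of_mem_normalizer h3] at r'
  have e1 : cj(s, ⁅W₁, X₁⁆) = ⁅W₁, cj(s, X₁)⁆ := by rw [← commutator_cj, cj_of_mem_normalizer h3]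
  have sz : s * z * s⁻¹ = z := by
    have := conj_mem_of_mem_normalizer (le_normalizer_commutator (L := 𝐍[W₁] ⊓ 𝐍[B]) inf_le_left
      inf_le_right ⟨h3, h2⟩) zY
    rw [e, mem_zp2 (r.sqW zW)] at this
    exact this.resolve_left fun k => z1 (conj_eq_one_iff.1 k)
  have k : ∀ u, s * u * s⁻¹ = u → u ∈ 𝐂[X₁] → u ∈ 𝐂[X₁ ⊔ cj(s, X₁)] := fun u a b => by
    rw [Amb.centralizer_sup, centralizer_cj]
    exact ⟨b, a ▸ conj_mem_cj s b⟩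
  rw [← cj_eq_iff, e1]
  refine (uniqV h.cm r r' h.bau1 z1 e c4 (by rw [← e1, card_cj, c4]) fun w hw => ?_).symm
  have sw : s * w * s⁻¹ = w := by rw [← h1 w hw, mul_inv_cancel_right]
  by_cases c : w ∈ 𝐅[X₁, W₁]
  · exact .inl (k w sw c.2)
  · have := two_dec (r.idxC.trans h.q) (r.quad zY) (h.IZ hw) (r.zC e) c
    rw [inv_of_sq (h.cm.sq hw)] at this
    exact .inr (k _ (by rw [← conj_mul, sw, sz]) this.2)

theorem GQ.le (h : GQ I S D B X₁ W₁ X₂ W₂) : S ⊓ 𝐍[⁅W₁, X₁⁆] ≤ S ⊓ 𝐍[⁅W₂, X₂⁆] :=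
  le_inf inf_le_left fun s hs => by
    have s1 := mem_inf.1 (h.nV hs)
    exact h.symm.lemU (h.cm.SC hs.1) (mem_inf.1 s1.1).1 s1.2

theorem GQ.blo (h : GQ I S D B X₁ W₁ X₂ W₂) : Blo S ⁅W₁, X₁⁆ := by
  have := Fact.mk Nat.prime_two
  have m := h.mp
  have r := m.r1
  obtain ⟨z, z1, e, c4⟩ := m.four h.q
  obtain ⟨-, -, -, c4'⟩ := m.symm.four h.symm.q
  have zY : z ∈ ⁅W₁, B⁆ := e ▸ mem_zpowers z
  have zV : z ∈ ⁅W₁, X₁⁆ := commutator_mono le_rfl r.BX zY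
  have l : ⁅W₁, X₁⁆ ≤ S := (r.V_le.trans r.WB).trans h.BS
  have l2 : ⁅W₂, X₂⁆ ≤ S ⊓ 𝐍[⁅W₁, X₁⁆] :=
    le_inf ((m.r2.V_le.trans m.r2.WB).trans h.BS) (m.VX.trans r.nV)
  have sq1 : ∀ v ∈ ⁅W₁, X₁⁆, v * v = 1 := fun v hv => r.sqW (r.V_le hv)
  refine ⟨l, sq1, c4, ?_, fun c => nVV m (l2.trans c)⟩
  have sy := h.cm.cent_syl (Y := ⁅W₁, X₁⁆ ⊔ I) le_sup_right (sup_le l h.cm.IS)
  have eQ : S ⊓ 𝐂[⁅W₁, X₁⁆ ⊔ I] = 𝐐[S, ⁅W₁, X₁⁆] := by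
    rw [Amb.centralizer_sup]
    exact le_antisymm (inf_le_inf_left _ inf_le_left)
      (le_inf inf_le_left (le_inf inf_le_right (inf_le_left.trans h.cm.SC)))
  rw [eQ] at sy
  obtain ⟨x, hx, hn⟩ := r.exN
  have nY : X₁ ≤ 𝐍[⁅W₁, X₁⁆ ⊔ I] := le_normalizer_iff_commutator_le_left.2
    ((commutator_mono (sup_le r.V_le (h.IZ.trans r.ZW)) le_rfl).trans le_sup_left)
  obtain ⟨k, hk, y, hy, rfl⟩ := sy.frattini (le_normalizer_centralizer nY hx)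
  have kV : k ∈ 𝐂[⁅W₁, X₁⁆] := centralizer_anti le_sup_left hk
  obtain ⟨v, hv, v1⟩ := SetLike.not_le_iff_exists.1 (nVV m)
  refine exists_rho (y := y) c4 sq1 zV z1 (l2 hv).2
    (c_comm.1 (mem_c.2 ((Z_le_cent B (r.quad zY)) v (m.r2.WB (m.r2.V_le hv))).symm)) v1
    (le_normalizer_inf (inf_le_left.trans le_normalizer) (le_normalizer_centralizer inf_le_right) (l2 hv))
    (fun q hq => ?_) ((Subgroup.mul_mem_cancel_left _ (centralizer_le_normalizer' _ kV)).1 (r.nV hx)) hy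
    fun c => hn (r.line hx (r.quad zY) (r.zC e) ?_)
  · rw [← commutatorElement_inv]
    exact inv_mem (four_comm c4' (fun v hv => m.r2.sqW (m.r2.V_le hv)) (m.YV zY) z1
      (h.le ⟨hq.1, centralizer_le_normalizer' _ hq.2⟩).2 (cent_le_c zV hq.2) hv)
  · rw [mem_c'.1 (mul_mem (cent_le_c zV kV) c)]; exact r.quad zY

theorem GQ.twin (h : GQ I S D B X₁ W₁ X₂ W₂) : ∃ V V' z, Tw S V V' z := by
  have m := h.mp
  obtain ⟨z, z1, e, -⟩ := m.four h.q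
  have zY : z ∈ ⁅W₁, B⁆ := e ▸ mem_zpowers z
  exact ⟨_, _, z, h.blo, h.symm.blo, le_antisymm h.le h.symm.le, nVV m.symm, z1,
    commutator_mono le_rfl m.r1.BX zY, m.YV zY⟩

end Cfsg.Agent.OD
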