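import Cfsg.Agent.OD.EX
import Cfsg.Agent.OD.Path
import Cfsg.Agent.OD.Twin
import Cfsg.Agent.OD.QTwo
import Cfsg.Agent.OD.B3
import Cfsg.Agent.Baum.Eng

/-! # The engine: `I` is weakly closed (port of Baum/Eng; S4008, captain helper80). -/

set_option autoImplicit false
set_option linter.unusedSectionVars false
set_option linter.unusedVariables false

namespace Cfsg.Agent.OD

open Cfsg.Agent.PLocal hiding centralizer_anti
open Subgroup Cfsg Cfsg.Agent.PLocal.Amb Cfsg.Agent.PLocal.TV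
open Cfsg.Agent.PLocal.SL2Nat Cfsg.Agent.PLocal.Bk
open Cfsg.Agent.PLocal.CP (IsCharP MinOver ncl)
open Cfsg.Agent.Baum
open scoped commutatorElement MatrixGroups Cfsg.Agent.PLocal.CP
open Cfsg.Agent.Baum.Eng (ph ph_cj ph_lt B_eq)

variable {A G : Type*} [Group A] [Group G] [Finite A] [Finite G] [MulDistribMulAction A G]
  {I S D B X W P H T : Subgroup G} {g : G}

theorem Rq.le_MM (r : Rq B X W) : X ≤ MM B :=
  le_sup_of_le_right (le_iSup_of_le X (le_iSup_of_le W (le_iSup_of_le r le_rfl)))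

theorem Al.key (c : Al A I S D) (hB : B ≤ S) (hI : I ≤ 𝐙[B]) (hN : 𝐍[B] ≤ 𝐍[I])
    (ba : ∀ X W, Rq B X W → Bau 2 B 𝐍[W]) (hM : I ≤ pCoreOf 2 (MM B) → MM B ≤ 𝐍[I])
    (r : Rq B X W) : False := by
  let Φ : Subgroup G → Subgroup G → Subgroup G → Prop := fun B' X' W' =>
    (∃ g : G, B' = cj(g, B)) ∧ Rq B' X' W'
  have f : Fm Φ := by
    refine ⟨fun _ _ _ h => h.2, ?_, ?_, ?_⟩
    · rintro _ _ _ a ⟨⟨g, rfl⟩, h⟩
      exact ⟨⟨a * g, (cj_mul _ _ _).symm⟩, h.cj a⟩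
    · rintro _ X₁ W₁ X₂ W₂ ⟨⟨g, rfl⟩, h₁⟩ ⟨-, h₂⟩
      have r₁ := h₁.cj g⁻¹
      have r₂ := h₂.cj g⁻¹
      rw [cj_inv_cj] at r₁ r₂
      by_contra k
      obtain ⟨V, V', z, t⟩ := GQ.twin ⟨c.toCm, ⟨r₁, r₂, fun k' => k (by
        rwa [centralizer_cj, cj_le_cj_iff] at k')⟩, hB, hI, ba _ _ r₁, ba _ _ r₂, c.q_two r₁ hI hN⟩
      exact c.noTw t
    · rintro _ _ _ ⟨⟨g, rfl⟩, h⟩
      exact h.fr (c.toCm.cj g) (by rw [Z_cj]; exact cj_mono g hI)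
  have e : (𝐍[B] ⊔ ⨆ (X : Subgroup G) (W : Subgroup G) (_ : Φ B X W), X) = MM B := by
    unfold MM
    simp only [Φ, show ∃ g : G, B = cj(g, B) from ⟨1, (cj_one B).symm⟩, true_and]
  exact r.notN c.toCm (r.le_MM.trans (hM (hI.trans (e ▸ f.core B))))

/-- good subgroups -/
def Gd (I S P : Subgroup G) : Prop :=
  (∀ H, P ≤ H → I ≤ pCoreOf 2 H → H ≤ 𝐍[I]) ∧ ∀ g : G, P ≤ cj(g, S) → g ∈ 𝐍[I]

theorem Al.gdS (c : Al A I S D) : Gd I S S := by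
  refine ⟨fun H h1 h2 => by_contra fun h3 => ?_, fun g hg => c.nS (cj_eq_iff.1
    (eq_of_le_of_card_le hg (card_cj g S).le).symm)⟩
  have hI := c.toCm.le_ZB c.toCm.IS le_rfl
  have iB : Solv.Ext.Inv A 𝐁[2, S] := Solv.Ext.inv_of_map_eq fun a => by
    rw [BlockTr.map_baumann _ (Solv.Ext.hom_injective a), c.iS.map_eq]
  have l : S ≤ 𝐍[𝐁[2, S]] := le_normalizer.trans (normalizer_le_normalizer_baumann S)
  have hN : 𝐍[𝐁[2, S]] ≤ 𝐍[I] := c.inv _ iB.normalizer l ((hI.trans (Z_le _)).trans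
    (le_pCoreOf (c.toCm.pg.to_le (baumann_le S)) le_normalizer le_rfl))
  obtain ⟨X, W, r⟩ := ex (c.syl.mono h1 le_top) c.IZ h2 (centralizer_le_normalizer' I) hN h3
  refine c.key (baumann_le S) hI hN (fun X W r => bau_syl c.syl (r.BX.trans r.nW))
    (c.inv _ (iB.normalizer.sup fun a x hx => ?_) (l.trans le_sup_left)) r
  refine mem_comap.1 ((show _ ≤ Subgroup.comap (Solv.Ext.hom G a)
      (⨆ (X : Subgroup G) (W : Subgroup G) (_ : Rq 𝐁[2, S] X W), X) from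
    iSup_le fun X => iSup_le fun W => iSup_le fun r => map_le_iff_le_comap.1 ?_) hx)
  have r' := r.map (Solv.Ext.hom_injective (G := G) a)
  rw [iB.map_eq] at r'
  exact le_iSup_of_le _ (le_iSup_of_le _ (le_iSup_of_le r' le_rfl))

/-- the extremal configuration -/
structure Ex (I S D P : Subgroup G) : Prop where
  c : Cm I S D
  IP : I ≤ P
  PS : P ≤ S
  ne : P ≠ S
  max : ∀ P', I ≤ P' → P' ≤ S → ph P < ph P' → Gd I S P'

namespace Ex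

variable (h : Ex I S D P)
include h

theorem mx (h1 : T ≤ cj(g, S)) (h2 : cj(g, I) ≤ T) (h3 : ph P < ph T) : Gd I S cj(g⁻¹, T) :=
  h.max _ (cj_le_iff.1 h2) (le_cj_iff.1 h1) (by rwa [ph_cj])

theorem one {R : Subgroup G} (h1 : I ≤ R) (h2 : R ≤ S) (e : ph R = ph P) :
    R < S ⊓ 𝐍[𝐁[2, R]] ∧ Gd I S (S ⊓ 𝐍[𝐁[2, R]]) ∧ 𝐍[𝐁[2, R]] ≤ 𝐍[I] := by
  have lt : R < S := lt_of_le_of_ne h2 fun k => by
    rw [k] at e; exact (ph_lt (lt_of_le_of_ne h.PS h.ne)).ne e.symm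
  have lt' : R < S ⊓ 𝐍[𝐁[2, R]] := (lt_inf_normalizer h.c.pg lt).trans_le
    (inf_le_inf_left _ (normalizer_le_normalizer_baumann R))
  have g := h.max _ (h1.trans lt'.le) inf_le_left (e ▸ ph_lt lt')
  exact ⟨lt', g, g.1 _ inf_le_right (((h.c.le_ZB h1 h2).trans (Z_le _)).trans (le_pCoreOf
    (h.c.pg.to_le ((baumann_le R).trans h2)) le_normalizer le_rfl))⟩

/-- a 2-subgroup of `N(I)` above `I` with large invariant is good up to conjugation in `N(I)` -/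
theorem gd (hT : IsPGroup 2 T) (h1 : I ≤ T) (h2 : T ≤ 𝐍[I]) (h3 : ph P < ph T) : Gd I S T := by
  obtain ⟨d, hd, e, -⟩ := h.c.exists_cj hT h2
  have dN := h.c.DN hd
  have k := h.mx e ((cj_of_mem_normalizer dN).le.trans h1) h3
  refine ⟨fun H a b => ?_, fun g hg => ?_⟩
  · have := k.1 cj(d⁻¹, H) (cj_mono _ a) (by
      rw [pCoreOf_cj, ← cj_of_mem_normalizer (inv_mem dN)]; exact cj_mono _ b)
    rwa [cj_le_iff, inv_inv, cj_of_mem dN] at this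
  · have := k.2 (d⁻¹ * g) (by rw [cj_mul]; exact cj_mono _ hg)
    exact (Subgroup.mul_mem_cancel_left _ (inv_mem dN)).1 this

theorem two (hg : P ≤ cj(g, S)) : g ∈ 𝐍[I] := by
  have := Fact.mk Nat.prime_two
  have b := h.c.cj g
  have yP : cj(g, I) ≤ 𝐂[P] := b.IC.trans (centralizer_anti hg)
  by_cases hy : cj(g, I) ≤ P
  swap
  · exact (h.gd (T := P ⊔ cj(g, I)) (b.pg.to_le (sup_le hg b.IS)) (h.IP.trans le_sup_left)
      (sup_le (h.PS.trans h.c.SN) ((yP.trans (centralizer_anti h.IP)).trans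
        (centralizer_le_normalizer' I)))
      (ph_lt (lt_of_le_of_ne le_sup_left fun e => hy (le_sup_right.trans e.ge)))).2 g (sup_le hg b.IS)
  obtain ⟨-, g1, -⟩ := h.one (R := cj(g⁻¹, P)) (cj_le_iff.1 hy) (le_cj_iff.1 hg) (ph_cj _ _)
  obtain ⟨lt, -, hM⟩ := h.one h.IP h.PS rfl
  obtain ⟨T, s, l⟩ := exists_isSyl_ge (L := 𝐍[𝐁[2, P]])
    (b.pg.to_le (inf_le_left : cj(g, S) ⊓ 𝐍[𝐁[2, P]] ≤ _)) inf_le_right
  obtain ⟨k, hk, c, -⟩ := h.c.exists_cj s.pgrp (s.le.trans hM)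
  have e1 : g⁻¹ * k ∈ 𝐍[I] := g1.2 _ (by
    rw [cj_mul, baumann_cj, normalizer_cj]
    refine le_trans ?_ (cj_mono g⁻¹ (l.trans c))
    rw [cj_inf, cj_inv_cj])
  simpa using inv_mem (mul_mem e1 (inv_mem (h.c.DN hk)))

theorem bad (h1 : I ≤ pCoreOf 2 H) (h2 : ¬ H ≤ 𝐍[I]) (hT : IsPGroup 2 T) (h3 : I ≤ T) (h4 : T ≤ H)
    (h5 : T ≤ 𝐍[I]) : ph T ≤ ph P :=
  not_lt.1 fun k => h2 ((h.gd hT h3 h5 k).1 H h4 h1)

theorem three (h1 : P ≤ H) (h2 : I ≤ pCoreOf 2 H) (h3 : ¬ H ≤ 𝐍[I]) : IsSyl 2 P H := by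
  have := Fact.mk Nat.prime_two
  obtain ⟨T, s, l⟩ := exists_isSyl_ge (h.c.pg.to_le h.PS) h1
  obtain ⟨g, -, c⟩ := h.c.syl.exists_le_cj s.pgrp le_top
  have := h.bad h2 h3 s.pgrp (h.IP.trans l) s.le
    (c.trans (cj_le_of_mem h.c.SN (h.two (l.trans c))))
  rcases l.lt_or_eq with k | k
  · exact absurd (ph_lt k) (not_lt.2 this)
  · rwa [k]

theorem four (r : Rq 𝐁[2, P] X W) : Bau 2 𝐁[2, P] 𝐍[W] := by
  refine ⟨r.pg, r.BX.trans r.nW, fun T hT h1 h2 => ?_⟩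
  obtain ⟨-, -, hM⟩ := h.one h.IP h.PS rfl
  have hz := h.c.le_ZB h.IP h.PS
  have b1 : 𝐁[2, P] ≤ T ⊓ 𝐍[𝐁[2, P]] := le_inf h1 le_normalizer
  have e2 := B_eq b1 (h.bad (H := 𝐍[W]) ((hz.trans r.ZW).trans (le_pCoreOf (r.pg.to_le r.WB)
    le_normalizer le_rfl)) (fun k => r.notN h.c (r.nW.trans k)) (hT.to_le inf_le_left)
    ((hz.trans (Z_le _)).trans b1) (inf_le_left.trans h2) (inf_le_right.trans hM))
  have e3 : T ⊓ 𝐍[𝐁[2, P]] = T := eq_of_inf_normalizer_le hT inf_le_left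
    (inf_le_inf_left _ ((normalizer_le_normalizer_baumann (p := 2) _).trans (by rw [e2])))
  rwa [e3] at e2

end Ex

theorem Al.wc (c : Al A I S D) (g : G) (hg : I ≤ cj(g, S)) : g ∈ 𝐍[I] := by
  by_contra k
  obtain ⟨P, ⟨h1, h2, h3⟩, hm⟩ := Set.exists_max_image
    {P : Subgroup G | I ≤ P ∧ P ≤ S ∧ ¬ Gd I S P} ph (Set.toFinite _)
    ⟨I, le_rfl, c.toCm.IS, fun d => k (d.2 g hg)⟩
  have h : Ex I S D P := ⟨c.toCm, h1, h2, fun e => h3 (e ▸ c.gdS), fun P' a b c => by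
    by_contra d; exact absurd c (not_lt.2 (hm P' ⟨a, b, d⟩))⟩
  obtain ⟨H, a, b, d⟩ : ∃ H, P ≤ H ∧ I ≤ pCoreOf 2 H ∧ ¬ H ≤ 𝐍[I] := by
    by_contra d
    push Not at d
    exact h3 ⟨d, fun g => h.two⟩
  obtain ⟨-, gd, hN⟩ := h.one h1 h2 rfl
  obtain ⟨X, W, r⟩ := ex (h.three a b d) (c.toCm.le_Z h1 h2) b (centralizer_le_normalizer' I) hN d
  exact c.key ((baumann_le P).trans h2) (c.toCm.le_ZB h1 h2) hN (fun _ _ => h.four)
    (gd.1 _ (inf_le_right.trans le_sup_left)) r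

end Cfsg.Agent.OD
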