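import Cfsg.Agent.OD.A0Y
import Cfsg.Agent.Baum.BM

/-! # Structure of a non-commuting pair (port of Baum/Pair; S4008, captain helper80). -/

set_option autoImplicit false
set_option linter.unusedSectionVars false
set_option linter.unusedVariables false

namespace Cfsg.Agent.OD

open Cfsg.Agent.PLocal hiding centralizer_anti
open Subgroup Cfsg Cfsg.Agent.PLocal.Amb Cfsg.Agent.PLocal.TV
open Cfsg.Agent.PLocal.SL2Nat Cfsg.Agent.PLocal.Bk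
open Cfsg.Agent.PLocal.CP (IsCharP MinOver ncl)
open Cfsg.Agent.Baum
open scoped commutatorElement MatrixGroups Cfsg.Agent.PLocal.CP


variable {G : Type*} [Group G] [Finite G] {B X₁ W₁ X₂ W₂ X₃ W₃ U S : Subgroup G}
  {t g b n s x w₁ w₂ : G}

open ApC
open Cfsg.Agent.Baum.ApiC (sup_eq nor)

namespace MQ

variable (h : MQ B X₁ W₁ X₂ W₂)
include h

theorem symm : MQ B X₂ W₂ X₁ W₁ := ⟨h.r2, h.r1, mt le_centralizer_iff.1 h.nc⟩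

theorem cj (g : G) : MQ cj(g, B) cj(g, X₁) cj(g, W₁) cj(g, X₂) cj(g, W₂) :=
  ⟨h.r1.cj g, h.r2.cj g, fun k => h.nc (by rwa [centralizer_cj, cj_le_cj_iff] at k)⟩

theorem q_eq : 𝐪[B, W₁] = 𝐪[B, W₂] := (h.r1.cp h.r2 h.r1.WB h.r2.WB h.nc).1

theorem B_eq : W₂ ⊔ 𝐐[B, W₁] = B := (h.r1.cp h.r2 h.r1.WB h.r2.WB h.nc).2.1

/-- `W₂ = V₂ C₂`, `C₂ ≤ Z ≤ Q₁`. -/
theorem B_eq' : ⁅W₂, X₂⁆ ⊔ 𝐐[B, W₁] = B :=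
  le_antisymm (sup_le (h.r2.V_le.trans h.r2.WB) inf_le_left) (h.B_eq.ge.trans (sup_le (h.r2.VC.ge.trans
    (sup_le_sup_left ((h.r2.CZ.trans h.r1.ZW).trans h.r1.WQ) _)) le_sup_right))

theorem Y_eq : ⁅W₁, B⁆ = ⁅W₂, B⁆ := (h.r1.cp h.r2 h.r1.WB h.r2.WB h.nc).2.2.2.1

theorem Y_eq' : ⁅W₁, W₂⁆ = ⁅W₁, B⁆ := (h.r1.cp h.r2 h.r1.WB h.r2.WB h.nc).2.2.1

theorem inf_c : W₁ ⊓ 𝐂[W₂] = 𝐙[B] := (h.r1.cp h.r2 h.r1.WB h.r2.WB h.nc).2.2.2.2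

theorem inf_eq : W₁ ⊓ W₂ = 𝐙[B] := le_antisymm ((inf_le_inf_left _ h.r2.Wc).trans h.inf_c.le) (le_inf h.r1.ZW h.r2.ZW)

theorem YV : ⁅W₁, B⁆ ≤ ⁅W₂, X₂⁆ := h.Y_eq.le.trans (commutator_mono le_rfl h.r2.BX)

theorem VX : ⁅W₂, X₂⁆ ≤ X₁ := (h.r2.V_le.trans h.r2.WB).trans h.r1.BX

/-- `v ∈ V₂` centralising `V₁` centralises `W₁ = V₁ C₁`, so lies in `Z ⊓ V₂ = Y`. -/
theorem VV : ⁅W₂, X₂⁆ ⊓ 𝐂[⁅W₁, X₁⁆] = ⁅W₁, B⁆ := by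
  refine le_antisymm (fun v hv => ?_) (le_inf h.YV ((h.r1.quad.trans (Z_le_cent B)).trans
    (centralizer_anti (h.r1.V_le.trans h.r1.WB))))
  have : v ∈ 𝐂[W₁] := by
    rw [← h.r1.VC, Amb.centralizer_sup]
    exact ⟨hv.2, fun c hc => (hc.2 v (h.VX hv.1)).symm⟩
  rw [h.Y_eq, ← h.r2.VZ, ← h.symm.inf_c]
  exact ⟨hv.1, h.r2.V_le hv.1, this⟩

theorem decQ (hg : g ∈ 𝐐[B, W₁]) : ∃ w ∈ W₁, ∃ r ∈ 𝐐[B, W₁] ⊓ 𝐂[W₂], g = w * r := by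
  obtain ⟨w, hw, r, hr, rfl⟩ := (mem_sup_of_le_normalizer_right
    ((h.r1.WB.trans h.r2.BX).trans h.r2.nQ)).1 (h.symm.B_eq.ge hg.1)
  exact ⟨w, hw, r, ⟨(mul_mem_cancel_left (h.r1.WQ hw)).1 hg, hr.2⟩, rfl⟩

/-- Dedekind: `W₁ ≤ Q₁ ≤ W₁ Q₂`. -/
theorem Q_eq : 𝐐[B, W₁] = W₁ ⊔ (𝐐[B, W₁] ⊓ 𝐂[W₂]) := by
  refine le_antisymm (fun g hg => ?_) (sup_le h.r1.WQ inf_le_left)
  obtain ⟨w, hw, r, hr, rfl⟩ := h.decQ hg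
  exact mul_mem_sup hw hr

theorem QW : ⁅𝐐[B, W₁], W₂⁆ ≤ ⁅W₁, B⁆ := commutator_le.2 fun g hg v hv => by
  obtain ⟨w, hw, r, hr, rfl⟩ := h.decQ hg
  rw [show ⁅w * r, v⁆ = ⁅w, v⁆ by
    rw [commutatorElement_def, commutatorElement_def, mul_assoc w r, ← hr.2 v hv]; group]
  exact commutator_mem_commutator hw (h.r2.WB hv)

theorem L_le : L1 X₁ X₂ W₂ ≤ X₁ := CP.ncl_le_of_le h.VX

theorem nL : X₁ ≤ 𝐍[L1 X₁ X₂ W₂] := CP.le_normalizer_ncl _ _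

/-- `commutator_ncl_le`, `Y ≤ V₁`. -/
theorem QL : ⁅𝐐[B, W₁], L1 X₁ X₂ W₂⁆ ≤ ⁅W₁, X₁⁆ :=
  CP.commutator_ncl_le h.r1.nQ h.r1.nV (h.VX.trans h.r1.nV)
    (((commutator_mono le_rfl h.r2.V_le).trans h.QW).trans (commutator_mono le_rfl h.r1.BX))

/-- `V₁ = Y Y^x` and `Y ≤ V₂`. -/
theorem V_le_L : ⁅W₁, X₁⁆ ≤ L1 X₁ X₂ W₂ := by
  obtain ⟨x, hx, hn⟩ := h.r1.exN
  rw [h.r1.V_eq hx hn]
  exact sup_le (h.YV.trans (CP.le_ncl _ _)) ((cj_mono x h.YV).trans (CP.cj_le_ncl _ hx))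

theorem X_le (hx : x ∈ X₁) (hn : x ∉ 𝐍[𝐙[B]]) : X₁ ≤ (⁅W₂, X₂⁆ ⊔ cj(x, ⁅W₂, X₂⁆)) ⊔ 𝐐[B, W₁] := by
  refine (h.r1.gen0 x hx hn).trans (sup_le (h.B_eq'.ge.trans (sup_le_sup_right le_sup_left _))
    ((cj_mono x h.B_eq'.ge).trans ?_))
  rw [cj_sup, cj_of_mem_normalizer (h.r1.nQ hx)]
  exact sup_le_sup_right le_sup_right _

theorem X_eq : L1 X₁ X₂ W₂ ⊔ 𝐐[B, W₁] = X₁ := by
  obtain ⟨x, hx, hn⟩ := h.r1.exN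
  exact le_antisymm (sup_le h.L_le (inf_le_left.trans h.r1.BX)) ((h.X_le hx hn).trans
    (sup_le_sup_right (sup_le (CP.le_ncl _ _) (CP.cj_le_ncl _ hx)) _))

/-- `L₀ = V₂ ⊔ V₂^x ≥ Y Y^x = V₁ ≥ ⁅Q₁, L₀⁆`, so `L₀` is normalised by `X₁ ≤ B ⊔ B^x = L₀ Q₁`. -/
theorem L_eq (hx : x ∈ X₁) (hn : x ∉ 𝐍[𝐙[B]]) :
    L1 X₁ X₂ W₂ = ⁅W₂, X₂⁆ ⊔ cj(x, ⁅W₂, X₂⁆) := by
  have l : ⁅W₂, X₂⁆ ⊔ cj(x, ⁅W₂, X₂⁆) ≤ L1 X₁ X₂ W₂ := sup_le (CP.le_ncl _ _) (CP.cj_le_ncl _ hx)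
  refine le_antisymm (CP.ncl_le le_sup_left ((h.X_le hx hn).trans (sup_le le_normalizer
    (nor (((commutator_mono le_rfl l).trans h.QL).trans ?_))))) l
  rw [h.r1.V_eq hx hn]
  exact sup_le_sup h.YV (cj_mono x h.YV)

/-- `pRes_sup_le`, `mem_pRes`. -/
theorem odd_mem (hg : g ∈ X₁) (ho : Odd (orderOf g)) : g ∈ L1 X₁ X₂ W₂ :=
  pRes_sup_le (h.r1.pg.to_le inf_le_left) ((inf_le_left.trans h.r1.BX).trans h.nL)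
    (mem_pRes (h.X_eq.ge hg) ho.coprime_two_right)

theorem CL : W₁ ⊓ 𝐂[L1 X₁ X₂ W₂] = 𝐅[X₁, W₁] := by
  refine le_antisymm (le_inf inf_le_left (le_trans ?_ (centralizer_anti h.X_eq.ge)))
    (inf_le_inf_left _ (centralizer_anti h.L_le))
  rw [Amb.centralizer_sup]
  exact le_inf inf_le_right (inf_le_left.trans (le_centralizer_iff.1 inf_le_right))

/-- `g = w r`, `g g = r r ∈ R` centralises `W₂`; apply this to the `X₁`-conjugates of `g`. -/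
theorem sqL (hg : g ∈ 𝐐[B, W₁]) : g * g ∈ 𝐂[L1 X₁ X₂ W₂] := by
  refine le_c_iff.1 (CP.ncl_le_iff.2 fun x hx => le_c_iff.2 ?_)
  obtain ⟨w, hw, r, hr, e⟩ := h.decQ (inv_conj_mem_of_mem_normalizer (h.r1.nQ hx) hg)
  rw [centralizer_cj, mem_cj, show x⁻¹ * (g * g) * x = x⁻¹ * g * x * (x⁻¹ * g * x) by group, e,
    (show Commute w r from hr.1.2 w hw).symm.mul_mul_mul_comm, h.r1.sqW hw, one_mul]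
  exact centralizer_anti h.r2.V_le (mul_mem hr.2 hr.2)

/-- `⁅Q₁, Q₁⁆ = ⁅R, R⁆ ≤ C(W₂)` is normal in `X₁`. -/
theorem cmL : ⁅𝐐[B, W₁], 𝐐[B, W₁]⁆ ≤ 𝐂[L1 X₁ X₂ W₂] := commutator_le.2 fun a ha b hb => by
  rw [show ⁅a, b⁆ = a * a * (a⁻¹ * b * (a⁻¹ * b)) * (b⁻¹ * b⁻¹) by rw [commutatorElement_def]; group]
  exact mul_mem (mul_mem (h.sqL ha) (h.sqL (mul_mem (inv_mem ha) hb))) (h.sqL (inv_mem hb))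

/-- `h.r1.ti`, `inf_c`. -/
theorem nc' (h1 : w₁ ∈ W₁) (h1' : w₁ ∉ 𝐙[B]) (h2 : w₂ ∈ W₂) (h2' : w₂ ∉ 𝐙[B]) :
    ⁅w₁, w₂⁆ ∉ 𝐅[X₁, W₁] := fun m =>
  (h.r1.ti h1 (h.r2.WB h2) m).elim (fun c => h2' (h.symm.inf_c.le ⟨h2, c⟩)) h1'

/-- `b = w₂ w₁ r`, `1 = b b = ⁅w₂, w₁⁆ · r r`, so `⁅w₂, w₁⁆ ∈ W₁ ⊓ C(L₁) = C₁`; `nc'`. -/
theorem invol (hb : b ∈ B) (h2 : b * b = 1) : b ∈ 𝐂[W₁] ∨ b ∈ 𝐂[W₂] := by
  obtain ⟨v, hv, g, hg, rfl⟩ := (mem_sup_of_le_normalizer_right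
    ((h.r2.WB.trans h.r1.BX).trans h.r1.nQ)).1 (h.B_eq.ge hb)
  obtain ⟨w, hw, r, hr, rfl⟩ := h.decQ hg
  have c : Commute (v * w) r := Commute.mul_left (hr.2 v hv) (hr.1.2 w hw)
  rw [← mul_assoc v w r, c.symm.mul_mul_mul_comm] at h2
  have e : ⁅w, v⁆ = r * r := by
    rw [← inv_eq_of_mul_eq_one_right h2, commutatorElement_def, mul_inv_rev, mul_inv_rev,
      inv_eq_of_mul_eq_one_right (h.r1.sqW hw), inv_eq_of_mul_eq_one_right (h.r2.sqW hv), mul_assoc]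
  by_cases c1 : w ∈ 𝐙[B]
  · exact Or.inr (mul_mem (h.r2.Wc hv) (mul_mem (h.r2.Wc (h.r2.ZW c1)) hr.2))
  by_cases c2 : v ∈ 𝐙[B]
  · exact Or.inl (mul_mem (h.r1.Wc (h.r1.ZW c2)) hg.2)
  exact absurd (h.CL.le ⟨h.r1.ZW (h.r1.quad (commutator_mem_commutator hw (h.r2.WB hv))), e ▸ h.sqL hr.1⟩)
    (h.nc' hw c1 hv c2)

/-- a group is not the union of two proper subgroups -/
theorem ea_or (hU : U ≤ B) (h2 : ∀ u ∈ U, u * u = 1) : U ≤ 𝐂[W₁] ∨ U ≤ 𝐂[W₂] := by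
  by_contra c
  obtain ⟨a, ha, na⟩ := SetLike.not_le_iff_exists.1 (not_or.1 c).1
  obtain ⟨b, hb, nb⟩ := SetLike.not_le_iff_exists.1 (not_or.1 c).2
  rcases h.invol (hU (mul_mem ha hb)) (h2 _ (mul_mem ha hb)) with r | r
  · exact na ((mul_mem_cancel_right ((h.invol (hU hb) (h2 b hb)).resolve_right nb)).1 r)
  · exact nb ((mul_mem_cancel_left ((h.invol (hU ha) (h2 a ha)).resolve_left na)).1 r)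

/-- `W₃ ≤ C(W₁)` by `ea_or`; `cp` gives `⁅W₃, B⁆ = Y`; if `W₃ ≠ W₁`, `ylem` gives `Y ≤ C₁`. -/
theorem mtch (h3 : Rq B X₃ W₃) (hn : ¬ W₃ ≤ 𝐂[W₂]) : W₃ = W₁ := by
  by_contra ne
  have := h3.ylem h.r1 ((h.ea_or h3.WB fun _ => h3.sqW).resolve_right hn) ne
  rw [(MQ.mk h3 h.r2 hn).Y_eq, ← h.Y_eq] at this
  exact h.r1.not_YC this

theorem cjN (h1 : n ∈ 𝐍[B]) : MQ B cj(n, X₁) cj(n, W₁) cj(n, X₂) cj(n, W₂) := by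
  have := h.cj n
  rwa [cj_of_mem_normalizer h1] at this

/-- `W₂^n` does not commute with `W₁`; `h.symm.mtch`. -/
theorem fix1 (h1 : n ∈ 𝐍[B]) (h2 : n ∈ 𝐍[W₁]) : n ∈ 𝐍[W₂] := by
  have k := (h.cjN h1).symm
  exact cj_eq_iff.1 (h.symm.mtch k.r1 (cj_of_mem_normalizer h2 ▸ k.nc))

theorem tri0 (h1 : n ∈ 𝐍[B]) : (cj(n, W₁) = W₁ ∧ cj(n, W₂) = W₂) ∨
    (cj(n, W₁) = W₂ ∧ cj(n, W₂) = W₁) ∨
    (cj(n, W₁) ≤ 𝐂[W₁] ∧ cj(n, W₁) ≤ 𝐂[W₂] ∧ cj(n, W₂) ≤ 𝐂[W₁] ∧ cj(n, W₂) ≤ 𝐂[W₂]) := by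
  have k := h.cjN h1
  by_cases a : cj(n, W₁) ≤ 𝐂[W₂]
  swap
  · have e := h.mtch k.r1 a
    exact Or.inl ⟨e, h.symm.mtch k.r2 (e ▸ k.symm.nc)⟩
  by_cases b : cj(n, W₁) ≤ 𝐂[W₁]
  swap
  · have e := h.symm.mtch k.r1 b
    exact Or.inr (Or.inl ⟨e, h.mtch k.r2 (e ▸ k.symm.nc)⟩)
  refine Or.inr (Or.inr ⟨b, a, ?_, ?_⟩) <;> by_contra c
  · exact k.nc ((h.symm.mtch k.r2 c).symm ▸ a)
  · exact k.nc ((h.mtch k.r2 c).symm ▸ b)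

/-- If `W₁^n ≠ W₁` commutes with `W₁` then `Y = Y^n ≤ C₁` (`ylem`); if it does not commute it is
`W₂`, and then `W₂^n` does not commute with `W₂`, so it is `W₁`. -/
theorem fix (h1 : n ∈ 𝐍[B]) (h2 : n ∈ 𝐍[⁅W₁, B⁆]) :
    (cj(n, W₁) = W₁ ∧ cj(n, W₂) = W₂) ∨ (cj(n, W₁) = W₂ ∧ cj(n, W₂) = W₁) := by
  refine (h.tri0 h1).imp_right fun r => r.resolve_right fun ⟨a, b, _⟩ => h.r1.not_YC ?_
  have := (h.cjN h1).r1.ylem h.r1 a fun e => h.nc (e ▸ b)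
  rwa [← cj_of_mem_normalizer h1, commutator_cj, cj_of_mem_normalizer h2] at this

end MQ

open Cfsg.Agent.Baum.BMx (two_dec)

theorem nWZ (h : MQ B X₁ W₁ X₂ W₂) : ¬ W₁ ≤ 𝐙[B] := fun c =>
  h.nc (c.trans ((Z_le_cent B).trans (centralizer_anti h.r2.WB)))

theorem nVZ (h : MQ B X₁ W₁ X₂ W₂) : ¬ ⁅W₁, X₁⁆ ≤ 𝐙[B] := fun c =>
  nWZ h (h.r1.VC.ge.trans (sup_le c h.r1.CZ))

theorem nVV (h : MQ B X₁ W₁ X₂ W₂) : ¬ ⁅W₂, X₂⁆ ≤ 𝐂[⁅W₁, X₁⁆] := fun c =>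
  nVZ h.symm (((le_inf le_rfl c).trans h.VV.le).trans h.r1.quad)

/-- `Y = ⁅W₁, W₂⁆ = ⟨z⟩` has order two (`|Wᵢ : Z| = 2`, `Wᵢ = Z ⟨wᵢ⟩`), `z ∉ C₁`; `V₁ = Y Y^x` is a
four-group (`z^x ≠ z` by `line`). -/
theorem MQ.four (h : MQ B X₁ W₁ X₂ W₂) (hq : 𝐪[B, W₁] = 2) :
    ∃ z, z ≠ 1 ∧ ⁅W₁, B⁆ = zpowers z ∧ Nat.card ↥⁅W₁, X₁⁆ = 4 := by
  obtain ⟨w₁, h1, n1⟩ := SetLike.not_le_iff_exists.1 (nWZ h)
  obtain ⟨w₂, h2, n2⟩ := SetLike.not_le_iff_exists.1 (nWZ h.symm)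
  have hz := h.nc' h1 n1 h2 n2
  have zY : ⁅w₁, w₂⁆ ∈ ⁅W₁, B⁆ := commutator_mem_commutator h1 (h.r2.WB h2)
  have e : ⁅W₁, B⁆ = zpowers ⁅w₁, w₂⁆ := by
    refine le_antisymm (h.Y_eq'.ge.trans (commutator_le.2 fun a ha b hb => ?_)) (zpowers_le.2 zY)
    by_cases c1 : a ∈ 𝐙[B]
    · rw [commutatorElement_eq_one_iff_mul_comm.2 (Z_le_cent B c1 b (h.r2.WB hb)).symm]
      exact one_mem _
    by_cases c2 : b ∈ 𝐙[B]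
    · rw [commutatorElement_eq_one_iff_mul_comm.2 (Z_le_cent B c2 a (h.r1.WB ha))]
      exact one_mem _
    have k1 := Z_le_cent B (two_dec (h.r1.idxZ.trans hq) ha h1 c1 n1)
    have k2 := Z_le_cent B (two_dec (h.r2.idxZ.trans (h.q_eq.symm.trans hq)) hb h2 c2 n2)
    rw [← mul_inv_cancel_left w₁ a, A0Y.cm (k1 b (h.r2.WB hb)).symm, ← commutatorElement_inv b,
      ← mul_inv_cancel_left w₂ b, A0Y.cm (k2 w₁ (h.r1.WB h1)).symm, commutatorElement_inv]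
    exact mem_zpowers _
  have z1 : ⁅w₁, w₂⁆ ≠ 1 := fun c => hz (c ▸ one_mem _)
  have o : orderOf ⁅w₁, w₂⁆ = 2 :=
    orderOf_eq_prime (by rw [sq]; exact h.r1.sqW (h.r1.ZW (h.r1.quad zY))) z1
  refine ⟨_, z1, e, ?_⟩
  obtain ⟨x, hx, hn⟩ := h.r1.exN
  have c : Nat.card ↥⁅W₁, B⁆ = 2 := by rw [e, Nat.card_zpowers, o]
  have b : ⁅W₁, B⁆ ⊓ cj(x, ⁅W₁, B⁆) = ⊥ := by
    refine (eq_bot_or_eq_top_of_prime_card (H := (⁅W₁, B⁆ ⊓ cj(x, ⁅W₁, B⁆)).subgroupOf ⁅W₁, B⁆)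
      (hp := ⟨c ▸ Nat.prime_two⟩)).elim (fun k => ?_) fun k => ?_
    · rw [subgroupOf_eq_bot] at k
      exact eq_bot_iff.2 ((le_inf le_rfl inf_le_left).trans k.le_bot)
    · exact absurd ((subgroupOf_eq_top.1 k).trans ((inf_le_inf h.r1.quad
        (cj_mono x h.r1.quad)).trans (h.r1.two hx hn).1)) h.r1.not_YC
  have k := card_sup_mul_card_inf (h.r1.nab (h.r1.quad.trans h.r1.ZW)
    ((cj_mono x h.r1.quad).trans (h.r1.ZxW hx)))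
  rw [b, card_cj, c, card_bot, mul_one] at k
  rw [h.r1.V_eq hx hn, k]

end Cfsg.Agent.OD
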