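import Cfsg.Agent.OD.LemG

/-! # Twin blocks over `Cm I S D`: the dihedral lemma (S4008, captain helper80).
API: Baum/Blk (`Tw.*` up to `Tw.ex0`, `Rho.cj`, `Rho.fpf`), Baum/B3 `b3_dec`, OD/CmL. -/

set_option autoImplicit false
set_option linter.unusedSectionVars false
set_option linter.unusedVariables false

namespace Cfsg.Agent.OD

open Cfsg.Agent.PLocal hiding centralizer_anti
open Subgroup Cfsg Cfsg.Agent.PLocal.Amb Cfsg.Agent.PLocal.TV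
open Cfsg.Agent.PLocal.SL2Nat Cfsg.Agent.PLocal.Bk
open Cfsg.Agent.PLocal.CP (IsCharP MinOver ncl)
open Cfsg.Agent.Baum Cfsg.Agent.Solv
open scoped commutatorElement MatrixGroups Cfsg.Agent.PLocal.CP

variable {G : Type*} [Group G] [Finite G] {I S D V V' : Subgroup G} {ρ s v v' x z : G}

/-- `R = Q ⊓ C(ρ)`, `Q = 𝐐[S, V]`.  For `r ∈ R`: `⁅v', r⁆ ∈ ⟨z⟩` (`four_comm` for `V'`, as
`r ∈ S ⊓ N(V) = S ⊓ N(V')` fixes `z`) and `⁅v', r⁆ ∈ C(ρ)` (`v'` inverts `ρ`, so `v' r v'⁻¹ ∈ C(ρ)`);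
`z ∉ C(ρ)` (`Rho.fpf`).  So `r` fixes `v'` and `z`; `h.symm.cent`. -/
theorem tw_R (h : Tw S V V' z) (r : Rho S V ρ) (hv' : v' ∈ V') (v1 : v' ∉ zpowers z)
    (e : v' * ρ * v'⁻¹ = ρ⁻¹) : 𝐐[S, V] ⊓ 𝐜[ρ] ≤ 𝐂[V'] := by
  intro x hx
  have hP : x ∈ S ⊓ 𝐍[V] := ⟨hx.1.1, centralizer_le_normalizer' V hx.1.2⟩
  have hP' : x ∈ S ⊓ 𝐍[V'] := h.eq ▸ hP
  have k1 := four_comm h.b2.card h.b2.sq h.zV' h.z1 hP'.2 (h.zc hP) hv'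
  have k2 : v' * x * v'⁻¹ ∈ 𝐜[ρ] := by
    have := conj_mem_cj v' (hx.2 : x ∈ 𝐜[ρ])
    rw [← centralizer_singleton_conj, e] at this
    exact c_comm.1 (inv_mem_iff.1 (c_comm.1 this))
  have k3 : ⁅x, v'⁆ ∈ 𝐜[ρ] := by
    rw [show ⁅x, v'⁆ = x * (v' * x * v'⁻¹)⁻¹ by rw [commutatorElement_def]; group]
    exact mul_mem hx.2 (inv_mem k2)
  rcases (mem_zp2 h.z2).1 k1 with k | k
  · exact h.symm.cent hv' v1 (h.zc hP) (mem_c_iff_comm.2 k)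
  · exact absurd (r.fpf h.b1 h.zV (c_comm.1 (k ▸ k3))) h.z1

/-- `b3_dec`: `x⁻¹ u ∈ C(ρ)`, `u ∈ V`; `x⁻¹ u ∈ C(V')` (`tw_R`), so `v'` fixes `u`, `u ∈ ⟨z⟩`
(`Tw.mem_zp`). -/
theorem tw_k1 (h : Tw S V V' z) (r : Rho S V ρ) (hv' : v' ∈ V') (v1 : v' ∉ zpowers z)
    (e : v' * ρ * v'⁻¹ = ρ⁻¹) (hx : x ∈ 𝐐[S, V]) (hx' : x ∈ 𝐜[v']) : x ∈ 𝐜[ρ] ∨ z * x ∈ 𝐜[ρ] := by
  obtain ⟨u, hu, k⟩ := b3_dec r h.b1 hx
  have k1 := cent_le_c hv' (tw_R h r hv' v1 e ⟨mul_mem (Subgroup.inv_mem _ hx) (h.VQ hu), k⟩)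
  rw [Subgroup.mul_mem_cancel_left _ (inv_mem hx')] at k1
  rcases (mem_zp2 h.z2).1 (h.mem_zp hu hv' v1 (c_comm.1 k1)) with rfl | rfl
  · left
    rwa [mul_one, inv_mem_iff] at k
  · right
    have := inv_mem k
    rwa [mul_inv_rev, inv_inv, inv_of_sq h.z2] at this

/-- No conjugate `I' = cj(k, I)` is centralised by `V`, `v'` and `ρ`: `(c.cj k).df`, `r.nc`. -/
theorem Cm.not_cent (c : Cm I S D) (h : Tw S V V' z) (r : Rho S V ρ) (hv' : v' ∈ V')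
    (e : v' * ρ * v'⁻¹ = ρ⁻¹) (k : G) (h1 : cj(k, I) ≤ 𝐂[V]) (h2 : cj(k, I) ≤ 𝐜[v']) :
    ¬ cj(k, I) ≤ 𝐜[ρ] := by
  intro h3
  exact r.nc ((c.cj k).df (pg_of_sq h.b1.sq)
    ((le_centralizer_iff.1 h1).trans (centralizer_le_normalizer' _)) r.nV
    (centralizer_le_normalizer' _ (le_c_iff.1 h3)) r.odd
    (centralizer_le_normalizer' _ (le_c_iff.1 h2)) (h.b2.sq v' hv') e)

theorem st_nQ {U : Subgroup G} (h : Tw S V V' z) (r : Rho S V ρ) (hc : U ≤ 𝐂[V]) :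
    ρ ∈ 𝐍[S ⊓ 𝐂[V ⊔ U]] := by
  refine mem_normalizer_of_cj_le (cj_le_iff_forall.2 fun x hx => ?_)
  rw [conj_eq_comm]
  have k := r.comm x ⟨hx.1, Amb.centralizer_anti le_sup_left hx.2⟩
  refine mul_mem ⟨h.b1.le k, ?_⟩ hx
  rw [Amb.centralizer_sup]
  exact ⟨le_cent_of_sq h.b1.sq k, le_centralizer_iff.1 hc k⟩

theorem Cm.st_case1 {Q : Subgroup G} {g : G} (c : Cm I S D) (h : Tw S V V' z) (r : Rho S V ρ)
    (hv' : v' ∈ V') (v1 : v' ∉ zpowers z) (e : v' * ρ * v'⁻¹ = ρ⁻¹) (h1 : I ≤ Q)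
    (h2 : Q ≤ 𝐐[S, V]) (h3 : g ∈ 𝐍[Q])
    (key : ∀ w ∈ I, (w ∈ 𝐜[ρ] ∧ g ∈ 𝐜[w]) ∨ (z * w ∈ 𝐜[ρ] ∧ g ∈ 𝐜[z * w]))
    (hg : g * z * g⁻¹ ∈ 𝐜[ρ]) : False := by
  have k1 : cj(g, I) ≤ 𝐜[ρ] := cj_le_iff_forall.2 fun w hw => by
    rcases key w hw with ⟨a, b⟩ | ⟨a, b⟩
    · rwa [mem_c'.1 b]
    · rw [← mem_c'.1 b, ← conj_mul] at a
      exact (Subgroup.mul_mem_cancel_left _ hg).1 a
  have k2 : cj(g, I) ≤ 𝐐[S, V] := (cj_le_of_mem_normalizer h1 h3).trans h2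
  exact c.not_cent h r hv' e g (k2.trans inf_le_right)
    (((le_inf k2 k1).trans (tw_R h r hv' v1 e)).trans (cent_le_c hv')) k1

theorem st_un2 {U C C' : Subgroup G} (h1 : ¬ U ≤ C) (h2 : ¬ U ≤ C') :
    ∃ x ∈ U, x ∉ C ∧ x ∉ C' := by
  obtain ⟨a, ha, na⟩ := SetLike.not_le_iff_exists.1 h1
  obtain ⟨b, hb, nb⟩ := SetLike.not_le_iff_exists.1 h2
  by_cases k1 : a ∈ C'
  · by_cases k2 : b ∈ C
    · exact ⟨a * b, mul_mem ha hb, fun r => na ((Subgroup.mul_mem_cancel_right _ k2).1 r),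
        fun r => nb ((Subgroup.mul_mem_cancel_left _ k1).1 r)⟩
    · exact ⟨b, hb, k2, nb⟩
  · exact ⟨a, ha, na, k1⟩

theorem Cm.st_case2 {U U' : Subgroup G} {σ u' g w : G} (c : Cm I S D) (h : Tw S V V' z)
    (r : Rho S V ρ) (hv' : v' ∈ V') (v1 : v' ∉ zpowers z) (e : v' * ρ * v'⁻¹ = ρ⁻¹)
    (h' : Tw S U U' z) (r' : Rho S U σ) (hu' : u' ∈ U') (u1 : u' ∉ zpowers z)
    (e' : u' * σ * u'⁻¹ = σ⁻¹) (hc : U ≤ 𝐂[V]) (hw : w ∈ V ⊔ U) (w1 : w ∈ 𝐜[ρ]) (w2 : w ∈ 𝐜[σ])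
    (hg : g ∈ zpowers ρ ⊔ zpowers σ) (eg : g * z * g⁻¹ = z * w) : w = 1 := by
  have := Fact.mk Nat.prime_two
  have a0 : V ⊔ U ≤ S := sup_le h.b1.le h'.b1.le
  have a1 : V ⊔ U ≤ S ⊓ 𝐂[V ⊔ U] := le_inf a0 (by
    rw [Amb.centralizer_sup]
    exact le_inf (sup_le (le_cent_of_sq h.b1.sq) hc)
      (sup_le (le_centralizer_iff.1 hc) (le_cent_of_sq h'.b1.sq)))
  have a2 : I ≤ S ⊓ 𝐂[V ⊔ U] := le_inf c.IS (c.IC.trans (Amb.centralizer_anti a0))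
  have q1 : S ⊓ 𝐂[V ⊔ U] ≤ 𝐐[S, V] := inf_le_inf_left _ (Amb.centralizer_anti le_sup_left)
  have q2 : S ⊓ 𝐂[V ⊔ U] ≤ 𝐐[S, U] := inf_le_inf_left _ (Amb.centralizer_anti le_sup_right)
  have a3 : S ⊓ 𝐂[V ⊔ U ⊔ I] ≤ S ⊓ 𝐂[V ⊔ U] :=
    inf_le_inf_left _ (Amb.centralizer_anti le_sup_left)
  have a4 : S ⊓ 𝐂[V ⊔ U] ≤ 𝐜[w] := inf_le_right.trans (cent_le_c hw)
  generalize S ⊓ 𝐂[V ⊔ U] = Q at a1 a2 q1 q2 a3 a4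
  have b1 : Q ⊔ V' ⊔ U' ≤ S := sup_le (sup_le (q1.trans inf_le_left) h.b2.le) h'.b2.le
  have b2 : Q ⊔ V' ⊔ U' ≤ 𝐜[z] := sup_le (sup_le ((q1.trans inf_le_right).trans (cent_le_c h.zV))
    (h.le'.trans h.zc)) (h'.le'.trans h'.zc)
  have b3 : zpowers ρ ⊔ zpowers σ ⊔ (Q ⊔ V' ⊔ U') ≤ 𝐜[w] := sup_le
    (sup_le (zpowers_le.2 (c_comm.1 w1)) (zpowers_le.2 (c_comm.1 w2)))
    (sup_le (sup_le a4 (le_c_iff.2 (tw_R h r hv' v1 e ⟨q1 (a1 hw), w1⟩)))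
      (le_c_iff.2 (tw_R h' r' hu' u1 e' ⟨q2 (a1 hw), w2⟩)))
  obtain ⟨T, hT, l⟩ := exists_isSyl_ge (c.pg.to_le b1)
    (le_sup_right : Q ⊔ V' ⊔ U' ≤ zpowers ρ ⊔ zpowers σ ⊔ (Q ⊔ V' ⊔ U'))
  obtain ⟨k, -, hk⟩ := c.syl.exists_le_cj hT.pgrp le_top
  have d1 : cj(k, I) ≤ 𝐂[T] := (c.cj k).IC.trans (Amb.centralizer_anti hk)
  have lQ : Q ≤ T := (le_sup_left.trans le_sup_left).trans l
  have d2 : cj(k, I) ≤ Q := ((c.cent_syl le_sup_right (sup_le a0 c.IS)).le_of_le_normalizer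
    (c.cj k).pgI (d1.trans (Amb.centralizer_anti ((sup_le a1 a2).trans lQ)))
    (((a3.trans lQ).trans (le_centralizer_iff.1 d1)).trans (centralizer_le_normalizer' _))).trans a3
  have d3 : cj(k, I) ≤ 𝐜[v'] := d1.trans (cent_le_c (l (mem_sup_left (mem_sup_right hv'))))
  have d4 : cj(k, I) ≤ 𝐜[u'] := d1.trans (cent_le_c (l (mem_sup_right hu')))
  obtain ⟨x, hx, n1, n2⟩ := st_un2 (c.not_cent h r hv' e k ((d2.trans q1).trans inf_le_right) d3)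
    (c.not_cent h' r' hu' e' k ((d2.trans q2).trans inf_le_right) d4)
  have f1 := (tw_k1 h r hv' v1 e (q1 (d2 hx)) (d3 hx)).resolve_left n1
  have f2 := (tw_k1 h' r' hu' u1 e' (q2 (d2 hx)) (d4 hx)).resolve_left n2
  have f3 : zpowers ρ ⊔ zpowers σ ⊔ (Q ⊔ V' ⊔ U') ≤ 𝐜[z * x] := sup_le
    (sup_le (zpowers_le.2 (c_comm.1 f1)) (zpowers_le.2 (c_comm.1 f2)))
    (le_c_iff.2 (mul_mem (le_c_iff.1 b2) (Amb.centralizer_anti l (d1 hx))))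
  exact no_shift hT (le_c_iff.2 ((Subgroup.mul_mem_cancel_right _ (d1 hx)).1
    (le_c_iff.1 (hT.le.trans f3)))) b3 (st_sq h.b1.sq h'.b1.sq hc w hw) (mem_sup_left hg) eg

/-- E1.  Suppose `U = V^s ≠ V`.  `v' ∈ V' \ ⟨z⟩`, `ρ` from `Tw.ex0` (inverted by `v'`);
`U' = V'^s`, `σ = ρ^s`, `u' = v'^s` do the same for the twin `h.cjS : Tw S U U' z`.
`Q₀ = S ⊓ C(V ⊔ U)` is normalised by `ρ` (`⁅ρ, Q⁆ ≤ V ≤ Q₀ ≤ Q`) and `σ`; `I ≤ Q₀`.  Apply `lemG`.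
Case 1, `z^h ∈ C(ρ)` (or `C(σ)`, symmetric): for `w ∈ I` (`w` centralises `S`), `tw_k1` gives
`w ∈ C(ρ)` or `z w ∈ C(ρ)`, and conjugating by `s` (fixes `w`, `z`) the SAME element `w` or `z w`
centralises `σ`, hence `h`.  So `w^h = w` or `w^h = z^h (z w)`: `I^h ≤ C(ρ)`.  `I^h ≤ Q₀ ≤ Q`, so
`I^h ≤ C(V')` (`tw_R`); `not_cent`.
Case 2, `r`, `g`: `S₀ = Q₀ ⊔ V' ⊔ U' ≤ S ⊓ C(z)`, `Y = (⟨ρ⟩ ⊔ ⟨σ⟩) ⊔ S₀ ≤ C(r)` (`r ∈ V ⊔ U ≤ Q₀`,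
`tw_R` twice).  `T ≥ S₀` Sylow in `Y` (`exists_isSyl_ge`), `T ≤ S^k`, `I' = I^k` centralises `T`.
`K = C((V ⊔ U) ⊔ I)` has the Sylow subgroup `S ⊓ K = Q₀` (`c.cent_syl`, `S ≤ C(I)`), `I' ≤ K` is a
2-group centralised by `Q₀`, so `I' ≤ Q₀` (`IsSyl.le_of_le_normalizer`).  `I' ≰ C(ρ)`, `I' ≰ C(σ)`
(`not_cent`), so some `x ∈ I'` lies in neither (`Offx.un2`-type argument: `a`, `b`, `a b`);
`tw_k1` twice: `f = z x` centralises `ρ`, `σ`, and `S₀`; so `Y ≤ C(f)`, `T ≤ C(f) ⊓ C(x) ≤ C(z)`;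
`no_shift` gives `r = 1`. -/
theorem Cm.e1 (c : Cm I S D) (h : Tw S V V' z) (hs : s ∈ S) (hz : s ∈ 𝐜[z])
    (hc : cj(s, V) ≤ 𝐂[V]) : cj(s, V) = V := by
  by_contra ne
  have sz : s * z * s⁻¹ = z := mem_c'.1 hz
  obtain ⟨v', hv', v1⟩ := h.symm.ex
  obtain ⟨ρ₀, r₀⟩ := h.b1.rho
  obtain ⟨ρ, -, r, e⟩ := h.ex0 r₀ hv' v1
  have h' := h.cjS (le_normalizer hs)
  rw [sz] at h'
  have r' := r.cj s
  rw [cj_of_mem hs] at r'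
  have hu' := conj_mem_cj s hv'
  have u1 : s * v' * s⁻¹ ∉ zpowers z := fun k => v1 (by
    rcases (mem_zp2 h.z2).1 k with k | k
    · rw [conj_eq_one_iff.1 k]; exact one_mem _
    · rw [← sz, mul_left_inj, mul_right_inj] at k
      rw [k]; exact mem_zpowers z)
  have e' : s * v' * s⁻¹ * (s * ρ * s⁻¹) * (s * v' * s⁻¹)⁻¹ = (s * ρ * s⁻¹)⁻¹ := by
    rw [conj_inv, conj_mul, conj_mul, e, conj_inv]
  have key : ∀ w ∈ I, (w ∈ 𝐜[ρ] ∧ w ∈ 𝐜[s * ρ * s⁻¹]) ∨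
      (z * w ∈ 𝐜[ρ] ∧ z * w ∈ 𝐜[s * ρ * s⁻¹]) := fun w hw => by
    have sw : s * w * s⁻¹ = w := mem_c'.1 (c_comm.1 (cent_le_c hs (c.IC hw)))
    rw [centralizer_singleton_conj]
    refine (tw_k1 h r hv' v1 e ⟨c.IS hw, Amb.centralizer_anti h.b1.le (c.IC hw)⟩
      (cent_le_c (h.b2.le hv') (c.IC hw))).imp (fun k => ⟨k, ?_⟩) fun k => ⟨k, ?_⟩
    · rw [← sw]; exact conj_mem_cj s k
    · rw [← sw, ← sz, conj_mul]; exact conj_mem_cj s k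
  generalize s * v' * s⁻¹ = u' at hu' u1 e'
  generalize s * ρ * s⁻¹ = σ at r' e' key
  generalize cj(s, V') = U' at h' hu'
  generalize cj(s, V) = U at h' r' hc ne
  have hc' : V ≤ 𝐂[U] := le_centralizer_iff.1 hc
  have a0 : V ⊔ U ≤ S := sup_le h.b1.le h'.b1.le
  have a2 : I ≤ S ⊓ 𝐂[V ⊔ U] := le_inf c.IS (c.IC.trans (Amb.centralizer_anti a0))
  have n1 : zpowers ρ ⊔ zpowers σ ≤ 𝐍[S ⊓ 𝐂[V ⊔ U]] := sup_le (zpowers_le.2 (st_nQ h r hc))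
    (zpowers_le.2 (by rw [sup_comm]; exact st_nQ h' r' hc'))
  have n2 : ∀ w, w ∈ 𝐜[ρ] → w ∈ 𝐜[σ] → zpowers ρ ⊔ zpowers σ ≤ 𝐜[w] := fun w a b =>
    sup_le (zpowers_le.2 (c_comm.1 a)) (zpowers_le.2 (c_comm.1 b))
  rcases lemG h.b1.card h.b1.sq h'.b1.card h'.b1.sq (Ne.symm ne) hc h.z1 h.zV h'.zV r.nV
    (fun _ => r.fpf h.b1) (fun u hu => r.comm u ⟨h'.b1.le hu, hc hu⟩) r'.nV (fun _ => r'.fpf h'.b1)
    (fun v hv => r'.comm v ⟨h.b1.le hv, hc' hv⟩) with ⟨g, hg, k | k⟩ | ⟨w, hw, w0, w1, w2, g, hg, k⟩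
  · exact c.st_case1 h r hv' v1 e a2 (inf_le_inf_left _ (Amb.centralizer_anti le_sup_left)) (n1 hg)
      (fun w hw => (key w hw).imp (fun a => ⟨a.1, n2 _ a.1 a.2 hg⟩) fun a => ⟨a.1, n2 _ a.1 a.2 hg⟩) k
  · exact c.st_case1 h' r' hu' u1 e' a2 (inf_le_inf_left _ (Amb.centralizer_anti le_sup_right)) (n1 hg)
      (fun w hw => (key w hw).imp (fun a => ⟨a.2, n2 _ a.1 a.2 hg⟩) fun a => ⟨a.2, n2 _ a.1 a.2 hg⟩) k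
  · exact w0 (c.st_case2 h r hv' v1 e h' r' hu' u1 e' hc hw w1 w2 hg k)

/-- copy `Baum.Tw.star` (Baum/Star), `e1` replaces `eq_of_comm` -/
theorem Cm.star (c : Cm I S D) (h : Tw S V V' z) (hv : v ∈ V) (hs : s ∈ S) (s2 : s * s = 1)
    (hz : s ∈ 𝐜[z]) (nc : s ∉ 𝐜[v]) : z ∈ zpowers (s * v) := by
  have v1 : v ∉ zpowers z := fun e => nc (c_comm.1 (zpowers_le.2 (c_comm.1 hz) e))
  have cV := st_com h.b1.sq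
  have m : zpowers (s * v) ≤ S ⊓ 𝐜[z] :=
    zpowers_le.2 (mul_mem ⟨hs, hz⟩ ⟨h.b1.le hv, cent_le_c h.zV (cV hv)⟩)
  obtain ⟨w, hw, y, hy, w2, w1, ws, wv, e, -⟩ := dih s2 (h.b1.sq v hv)
    (isPGroup_iff.1 c.pg _ (m (mem_zpowers _)).1) nc
  have yz : y * z * y⁻¹ = z := mul_inv_eq_iff_eq_mul.2 (mem_c.1 (m hy).2)
  have wV := h.cent hv v1 (m hw).2 wv
  have e1 := c.e1 h (m hy).1 (m hy).2 (cj_le_iff_forall.2 fun u hu => by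
    rcases four_cases h.b1.card h.zV h.z1 hv v1 h.z2 hu with rfl | rfl | rfl | rfl
    · simp
    · rw [yz]; exact cV hu
    · rw [e]; exact mul_mem wV (cV hu)
    · rw [← conj_mul, e, yz]; exact mul_mem (mul_mem wV (cV hv)) (cV h.zV))
  have := conj_mem_cj y hv
  rw [e1, e, Subgroup.mul_mem_cancel_right _ hv] at this
  rcases four_cases h.b1.card h.zV h.z1 hv v1 h.z2 this with rfl | rfl | rfl | rfl
  · exact absurd rfl w1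
  · exact hw
  · exact absurd (c_comm.1 ws) nc
  · exact absurd (c_comm.1 ((Subgroup.mul_mem_cancel_right _ (c_comm.1 hz)).1 ws)) nc

/-- copy `Baum.Tw.star'` -/
theorem Cm.star' (c : Cm I S D) (h : Tw S V V' z) (hv : v ∈ V) (hs : s ∈ S) (s2 : s * s = 1)
    (hz : s ∈ 𝐜[z]) (nc : s ∉ 𝐜[v]) (e : ⁅s, v⁆ * ⁅s, v⁆ = 1) : ⁅s, v⁆ = z := by
  refine zp_uniq (x := s * v) ?_ (c.star h hv hs s2 hz nc) e
    (fun r => nc (mem_c.2 (commutatorElement_eq_one_iff_mul_comm.1 r))) h.z2 h.z1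
  rw [commutatorElement_def, inv_eq_of_mul_eq_one_right s2, inv_eq_of_mul_eq_one_right (h.b1.sq v hv),
    mul_assoc (s * v)]
  exact mul_mem (mem_zpowers _) (mem_zpowers _)

end Cfsg.Agent.OD
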